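import Mathlib

/-!
# The Diophantine part
-/

set_option autoImplicit false

namespace Cfsg.Agent.GroupStructure3.FiveOrbits.Four

theorem arith_two_two {q c M Q' R : ℕ} (hq : 3 ≤ q) (hc : q + 1 = 2 ^ c) (hM : 2 * (q + 1) ≤ M)
    (hQ : Q' = 1 ∨ q ≤ Q') (hR : 3 ≤ R) (hRodd : R % 2 = 1) (hRq : R ≠ q)
    (he : 2 + 2 * (M * Q' * R) = 2 * (Q' * R) + q * (M * Q') + M * R) : False := by
  have hqodd : q % 2 = 1 := by
    rcases c with _ | c
    · simp at hc; omega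
    · rw [pow_succ] at hc; omega
  rcases hQ with rfl | hQ
  · simp only [mul_one, one_mul] at he
    rcases Nat.lt_or_gt_of_ne hRq with h | h
    · have h2 : R + 2 ≤ q := by omega
      nlinarith [Nat.mul_le_mul_left M h2]
    · have h2 : q + 2 ≤ R := by omega
      nlinarith [Nat.mul_le_mul_left M h2, Nat.mul_le_mul h2 (show 2 ≤ M by omega)]
  · rcases Nat.lt_or_gt_of_ne hRq with h | h
    · rcases (show 2 * R = q + 1 ∨ q + 3 ≤ 2 * R ∨ 2 * R + 1 ≤ q by omega) with h2 | h2 | h2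
      · have hd : R ∣ 2 ^ c := ⟨2, by omega⟩
        obtain ⟨i, -, hi⟩ := (Nat.dvd_prime_pow Nat.prime_two).1 hd
        rcases i with _ | i
        · simp at hi; omega
        · rw [pow_succ] at hi; omega
      · nlinarith [Nat.mul_le_mul_left (M * Q') h2, Nat.mul_le_mul_left M (show R + 1 ≤ Q' by omega),
          Nat.mul_le_mul_left Q' (show 2 * R + 1 ≤ M by omega)]
      · nlinarith [Nat.mul_le_mul_left (M * Q') h2, Nat.mul_le_mul (show 16 ≤ M * 2 by omega) (show 1 ≤ Q' by omega)]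
    · have h2 : q + 2 ≤ R := by omega
      have h3 : q * M + 2 * R ≤ 2 * (M * R) := by nlinarith [Nat.mul_le_mul_left M h2]
      nlinarith [Nat.mul_le_mul hQ h3, Nat.mul_le_mul_left M h2]

theorem arith_two_three {M Q R : ℕ} (hM : 16 ≤ M) (hQ : Q = 3 ∨ 9 ≤ Q) (hR : 7 ≤ R)
    (he : M * Q * R + 6 = 2 * (Q * R) + 3 * (M * R) + 2 * (M * Q)) : False := by
  rcases hQ with rfl | hQ
  · nlinarith
  · nlinarith [Nat.mul_le_mul hM (le_refl (Q * R)), Nat.mul_le_mul hQ (le_refl (M * R)),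
      Nat.mul_le_mul hR (le_refl (M * Q))]

theorem arith_two_four {M Q R : ℕ} (hM : M = 16 ∨ M = 64 ∨ 256 ≤ M) (hQ : Q = 3 ∨ Q = 9 ∨ (27 ≤ Q ∧ 27 ∣ Q))
    (hR : 5 ≤ R) (hR3 : R % 3 ≠ 0) (hR4 : R % 4 = 1)
    (he : M * Q * R + 12 = 4 * (Q * R) + 6 * (M * R) + 3 * (M * Q)) : False := by
  rcases hQ with rfl | rfl | ⟨hQ, hQd⟩
  · nlinarith
  · rcases hM with rfl | rfl | hM
    · omega
    · omega
    · rcases (show R = 5 ∨ 13 ≤ R by omega) with rfl | hR'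
      · omega
      · nlinarith [Nat.mul_le_mul hM hR']
  · rcases (show R = 5 ∨ 13 ≤ R by omega) with rfl | hR'
    · rcases hM with rfl | rfl | hM
      · omega
      · omega
      · nlinarith [Nat.mul_le_mul hM hQ]
    · have h1 : 16 ≤ M := by omega
      nlinarith [Nat.mul_le_mul h1 (le_refl (Q * R)), Nat.mul_le_mul hQ (le_refl (M * R)),
        Nat.mul_le_mul hR' (le_refl (M * Q))]

theorem arith_four_two {M Q R : ℕ} (hM : M = 16 ∨ M = 64 ∨ 256 ≤ M) (hQ : Q = 9 ∨ 81 ≤ Q)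
    (hR : 5 ≤ R) (hR3 : R % 3 ≠ 0) (hRodd : R % 2 = 1)
    (he : M * Q * R + 12 = 4 * (Q * R) + 3 * (M * R) + 6 * (M * Q)) : False := by
  rcases hQ with rfl | hQ
  · rcases hM with rfl | rfl | hM
    · omega
    · omega
    · rcases (show R = 5 ∨ R = 7 ∨ 11 ≤ R by omega) with rfl | rfl | hR'
      · omega
      · omega
      · nlinarith [Nat.mul_le_mul hM hR']
  · rcases (show R = 5 ∨ R = 7 ∨ 11 ≤ R by omega) with rfl | rfl | hR'
    · nlinarith
    · rcases hM with rfl | rfl | hM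
      · omega
      · omega
      · nlinarith [Nat.mul_le_mul hM hQ]
    · have h1 : 16 ≤ M := by omega
      nlinarith [Nat.mul_le_mul h1 (le_refl (Q * R)), Nat.mul_le_mul hQ (le_refl (M * R)),
        Nat.mul_le_mul hR' (le_refl (M * Q))]

theorem arith_five_two {M Q R : ℕ} (hM : M = 16 ∨ 64 ≤ M) (hQ : 81 ≤ Q) (hR : R = 5 ∨ R = 25 ∨ 125 ≤ R)
    (he : M * Q * R + 30 = 10 * (Q * R) + 6 * (M * R) + 15 * (M * Q)) : False := by
  rcases hM with rfl | hM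
  · rcases hR with rfl | rfl | hR'
    · omega
    · omega
    · nlinarith [Nat.mul_le_mul hQ hR', Nat.mul_le_mul hQ (le_refl R), Nat.mul_le_mul hR' (le_refl Q)]
  · rcases hR with rfl | hR'
    · nlinarith
    · have hR'' : 25 ≤ R := by omega
      nlinarith [Nat.mul_le_mul hM (le_refl (Q * R)), Nat.mul_le_mul hQ (le_refl (M * R)),
        Nat.mul_le_mul hR'' (le_refl (M * Q))]

/-- At least one of the two automizers has order two. -/
theorem two_of_sum {q a b : ℕ} (hq : 3 ≤ q) (ha : 2 ≤ a) (hb : 2 ≤ b) (h : q * a * b < a * b + q * b + q * a) :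
    a = 2 ∨ b = 2 := by
  by_contra hne
  push Not at hne
  have ha3 : 3 ≤ a := by omega
  have hb3 : 3 ≤ b := by omega
  nlinarith [Nat.mul_le_mul hq (le_refl (a * b)), Nat.mul_le_mul ha3 (le_refl (q * b)),
    Nat.mul_le_mul hb3 (le_refl (q * a))]

theorem sum_two {q b : ℕ} (hq : 3 ≤ q) (hb : 2 ≤ b) (h : q * 2 * b < 2 * b + q * b + q * 2) :
    b = 2 ∨ (q = 3 ∧ b ≤ 5) ∨ (b = 3 ∧ q ≤ 5) := by
  rcases (show b = 2 ∨ q = 3 ∨ (3 ≤ b ∧ 4 ≤ q) by omega) with e | e | ⟨h1, h2⟩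
  · exact Or.inl e
  · subst e; omega
  · have hb3 : b ≤ 3 := by nlinarith
    obtain rfl : b = 3 := by omega
    omega

theorem pow_cases_three {Q a : ℕ} (h : Q = 3 ^ a) (ha : 1 ≤ a) :
    Q = 3 ∨ Q = 9 ∨ Q = 27 ∨ (81 ≤ Q ∧ 81 ∣ Q) := by
  rcases (show a = 1 ∨ a = 2 ∨ a = 3 ∨ 4 ≤ a by omega) with rfl | rfl | rfl | ha
  · exact Or.inl (by rw [h]; norm_num)
  · exact Or.inr (Or.inl (by rw [h]; norm_num))
  · exact Or.inr (Or.inr (Or.inl (by rw [h]; norm_num)))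
  · refine Or.inr (Or.inr (Or.inr ⟨?_, ?_⟩))
    · rw [h]; exact le_trans (by norm_num) (Nat.pow_le_pow_right (by norm_num) ha : 3 ^ 4 ≤ 3 ^ a)
    · rw [h]; exact (by norm_num : 81 = 3 ^ 4) ▸ pow_dvd_pow 3 ha

theorem pow_cases_two {M n : ℕ} (h : M = 2 ^ n) (h3 : 3 ∣ M - 1) (hM : 8 ≤ M) :
    M = 16 ∨ M = 64 ∨ 256 ≤ M := by
  rcases (show n ≤ 7 ∨ 8 ≤ n by omega) with hn | hn
  · interval_cases n <;> subst h <;> omega
  · right; right
    rw [h]; exact le_trans (by norm_num) (Nat.pow_le_pow_right (by norm_num) hn : 2 ^ 8 ≤ 2 ^ n)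

end Cfsg.Agent.GroupStructure3.FiveOrbits.Four
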