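import Cfsg.Agent.GroupStructure3.FiveOrbits.Four.Setup

/-!
# Fixed-point-free groups of operators
-/

set_option autoImplicit false

namespace Cfsg.Agent.GroupStructure3.FiveOrbits.Four

universe u v

/-- An abelian group of prime exponent acting semiregularly by conjugation has prime order at most. -/
theorem card_le_of_fpf {G : Type u} [Group G] [Finite G] {s : ℕ} (hs : s.Prime) {A K : Subgroup G}
    (hA : ∀ a ∈ A, a ^ s = 1) (hcomm : ∀ a ∈ A, ∀ b ∈ A, Commute a b) (hK : K ≠ ⊥)
    (hAK : A ≤ Subgroup.normalizer (K : Set G)) (hcop : ¬ s ∣ Nat.card K)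
    (hfree : ∀ a ∈ A, a ≠ 1 → ∀ k ∈ K, Commute a k → k = 1) : Nat.card A ≤ s := by
  haveI := Fact.mk hs
  haveI : IsMulCommutative A := ⟨⟨fun a b => Subtype.ext (hcomm a a.2 b b.2).eq⟩⟩
  have hAp : IsPGroup s A := fun a => ⟨1, Subtype.ext (by rw [pow_one]; exact hA a a.2)⟩
  have hcop' : (Nat.card A).Coprime (Nat.card K) := by
    obtain ⟨k, hk⟩ := hAp.exists_card_eq
    rw [hk]
    exact (hs.coprime_iff_not_dvd.2 hcop).pow_left k
  by_cases hcyc : IsCyclic A
  · obtain ⟨g, hg⟩ := (Subgroup.isCyclic_iff_exists_zpowers_eq_top A).1 hcyc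
    rw [← hg, Nat.card_zpowers]
    exact Nat.le_of_dvd hs.pos (orderOf_dvd_of_pow_eq_one (hA g (hg ▸ Subgroup.mem_zpowers g)))
  · exfalso
    apply hK
    rw [← Coprime.fixedGen_eq hcyc hAK hcop', eq_bot_iff]
    refine iSup₂_le fun a ha => ?_
    intro k hk
    exact Subgroup.mem_bot.2 (hfree a ha.1 ha.2 k hk.1 ((Subgroup.mem_centralizer_iff.1 hk.2 a rfl)))

/-- An `s`-group of exponent `s` acting semiregularly has order at most `s`. -/
theorem card_pgroup_le_of_fpf {G : Type u} [Group G] [Finite G] {s : ℕ} [hs : Fact s.Prime] {P K : Subgroup G}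
    (hP : IsPGroup s P) (hexp : ∀ a ∈ P, a ^ s = 1) (hK : K ≠ ⊥) (hPK : P ≤ Subgroup.normalizer (K : Set G))
    (hcop : ¬ s ∣ Nat.card K) (hfree : ∀ a ∈ P, a ≠ 1 → ∀ k ∈ K, Commute a k → k = 1) : Nat.card P ≤ s := by
  by_contra hlt
  haveI : Nontrivial P := Finite.one_lt_card_iff_nontrivial.1 (lt_trans hs.out.one_lt (lt_of_not_ge hlt))
  haveI := hP.center_nontrivial
  obtain ⟨c, hc⟩ := exists_ne (1 : Subgroup.center P)
  obtain ⟨x, hxP, hx⟩ : ∃ x ∈ P, x ∉ Subgroup.zpowers ((c : P) : G) := by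
    by_contra hall
    push Not at hall
    apply hlt
    have := Subgroup.card_le_of_le (fun x hx => hall x hx : P ≤ Subgroup.zpowers ((c : P) : G))
    rw [Nat.card_zpowers] at this
    exact this.trans (Nat.le_of_dvd hs.out.pos (orderOf_dvd_of_pow_eq_one (hexp _ (c : P).2)))
  have hcx : Commute ((c : P) : G) x :=
    (congrArg Subtype.val (Subgroup.mem_center_iff.1 c.2 ⟨x, hxP⟩) :).symm
  set A := Subgroup.closure ({((c : P) : G), x} : Set G) with hA
  haveI : IsMulCommutative A := Subgroup.isMulCommutative_closure fun a ha b hb => by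
    rcases ha with rfl | rfl <;> rcases hb with rfl | rfl
    exacts [rfl, hcx, hcx.symm, rfl]
  have hAP : A ≤ P := (Subgroup.closure_le _).2 (by
    rintro a (rfl | rfl)
    exacts [(c : P).2, hxP])
  have h1 : Nat.card A ≤ s := card_le_of_fpf hs.out (fun a ha => hexp a (hAP ha))
    (fun a ha b hb => congrArg Subtype.val (mul_comm' (⟨a, ha⟩ : A) ⟨b, hb⟩)) hK (hAP.trans hPK) hcop
    (fun a ha => hfree a (hAP ha))
  have hco : orderOf ((c : P) : G) = s := orderOf_eq_prime (hexp _ (c : P).2)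
    (fun e => hc (Subtype.ext (Subtype.ext e)))
  apply hx
  rw [Subgroup.eq_of_le_of_card_ge (H := Subgroup.zpowers ((c : P) : G)) (K := A)
    (Subgroup.zpowers_le.2 (Subgroup.subset_closure (Or.inl rfl))) (by rwa [Nat.card_zpowers, hco])]
  exact Subgroup.subset_closure (Or.inr rfl)

/-- No group of order `q * r` without elements of that order is fixed-point-free on an elementary
abelian 2-group. -/
theorem no_qr {M : Type u} [Group M] [Finite M] {W : Type v} [CommGroup W] [Finite W] [Nontrivial W]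
    (hsq : ∀ w : W, w * w = 1) (ψ : M →* MulAut W) {q r : ℕ} (hq : q.Prime) (hr : r.Prime) (hqr : q ≠ r)
    (hcard : Nat.card M = q * r) (hno : ∀ m : M, orderOf m ≠ q * r)
    (hfix : ∀ m : M, m ≠ 1 → ∀ w, ψ m w = w → w = 1) : False := by
  wlog hlt : q < r generalizing q r
  · exact this hr hq hqr.symm (hcard.trans (mul_comm q r)) (fun m e => hno m (e.trans (mul_comm r q)))
      (by omega)
  haveI := Fact.mk hq
  haveI := Fact.mk hr
  obtain ⟨R⟩ : Nonempty (Sylow r M) := inferInstance
  have hn1 : Nat.card (Sylow r M) = 1 := by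
    have h1 : Nat.card (Sylow r M) ∣ q * r := hcard ▸ R.card_eq_index_normalizer ▸ Subgroup.index_dvd_card _
    have h2 := card_sylow_modEq_one r M
    have h3 : (Nat.card (Sylow r M)).Coprime r := by
      rw [Nat.coprime_comm, hr.coprime_iff_not_dvd]
      intro hd
      rw [Nat.ModEq, Nat.mod_eq_zero_of_dvd hd, Nat.one_mod_eq_one.2 hr.ne_one] at h2
      omega
    rcases (Nat.dvd_prime hq).1 (h3.dvd_of_dvd_mul_right h1) with e | e
    · exact e
    · rw [e, Nat.ModEq, Nat.mod_eq_of_lt hlt, Nat.one_mod_eq_one.2 hr.ne_one] at h2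
      exact absurd h2 hq.ne_one
  haveI : (R : Subgroup M).Normal := by
    haveI : Subsingleton (Sylow r M) := (Nat.card_eq_one_iff_unique.1 hn1).1
    exact R.normal_of_subsingleton
  obtain ⟨b, hb⟩ := exists_prime_orderOf_dvd_card' (G := M) q (hcard ▸ dvd_mul_right q r)
  have hRc : Nat.card R = r := by
    rw [R.card_eq_multiplicity, hcard, Nat.factorization_mul hq.ne_zero hr.ne_zero]
    simp [hq.factorization, hr.factorization, hqr]
  obtain ⟨x, hx⟩ := exists_prime_orderOf_dvd_card' (G := (R : Subgroup M)) r (by rw [hRc])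
  obtain ⟨w, hw⟩ := exists_ne (1 : W)
  refine hw (hfix (x : M) ?_ w (TwoQ.fixed_of_frobenius ψ R b (hb ▸ pow_orderOf_eq_one b)
    (fun a ha => Subgroup.Normal.conj_mem inferInstance a ha b) (fun a ha hc => ?_)
    (hRc.symm ▸ hr.odd_of_ne_two (by have := hq.two_le; omega)) hsq
    (fun v hv => hfix b (fun e => hq.ne_one (by rw [← hb, e, orderOf_one])) v hv) x x.2 w))
  · intro e
    rw [show x = 1 from Subtype.ext e, orderOf_one] at hx
    exact hr.ne_one hx.symm
  · by_contra ha1
    have hao : orderOf a = r := by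
      rcases (Nat.dvd_prime hr).1 (hRc ▸ Subgroup.orderOf_dvd_natCard (R : Subgroup M) ha) with e | e
      · exact absurd (orderOf_eq_one_iff.1 e) ha1
      · exact e
    exact hno (b * a) (by
      rw [(show Commute b a from hc).orderOf_mul_eq_mul_orderOf_of_coprime
        (by rw [hb, hao]; exact (Nat.coprime_primes hq hr).2 hqr), hb, hao])

end Cfsg.Agent.GroupStructure3.FiveOrbits.Four
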