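import Cfsg.Agent.GroupStructure3.FiveOrbits.Four.Local
import Cfsg.Agent.GroupStructure3.FiveOrbits.Reduce
import Cfsg.Agent.S3433

/-!
# The Sylow 2-subgroup of the normalizer of a maximal intersection
-/

set_option autoImplicit false

namespace Cfsg.Agent.GroupStructure3.FiveOrbits.Four

universe u v

/-- The data on the quotient of the normalizer by the intersection. -/
structure QuotData (X : Type u) [Group X] [Finite X] (W : Type v) [CommGroup W] [Finite W] (q r c A : ℕ)
    (S : Sylow 2 X) (ψ : X →* MulAut W) : Prop where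
  hq : q.Prime
  hr : r.Prime
  q2 : q ≠ 2
  r2 : r ≠ 2
  qr : q ≠ r
  hord : ∀ g : X, orderOf g = 1 ∨ orderOf g = 2 ∨ orderOf g = q ∨ orderOf g = r ∨ orderOf g = 4
  hsq : ∀ x ∈ (S : Subgroup X), x * x = 1
  hA : Nat.card S = 2 ^ A
  A1 : 1 ≤ A
  Ac : A ≤ c
  hn : Nat.card (Sylow 2 X) = 2 ^ c + 1
  hm : (S : Subgroup X).index ∣ q * r
  hW : ∀ w : W, w * w = 1
  hnt : Nontrivial W
  hfix : ∀ g : X, (orderOf g = q ∨ orderOf g = r) → ∀ w, ψ g w = w → w = 1
  hnorm : ∀ g ∈ Subgroup.normalizer ((S : Subgroup X) : Set X), ∀ s : ℕ, s.Prime → s ≠ 2 → orderOf g = s →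
    s ∣ 2 ^ c - 1

namespace QuotData

variable {X : Type u} [Group X] [Finite X] {W : Type v} [CommGroup W] [Finite W] {q r c A : ℕ}
  {S : Sylow 2 X} {ψ : X →* MulAut W}

theorem symm (d : QuotData X W q r c A S ψ) : QuotData X W r q c A S ψ where
  hq := d.hr
  hr := d.hq
  q2 := d.r2
  r2 := d.q2
  qr := d.qr.symm
  hord := fun g => by have := d.hord g; tauto
  hsq := d.hsq
  hA := d.hA
  A1 := d.A1
  Ac := d.Ac
  hn := d.hn
  hm := mul_comm q r ▸ d.hm
  hW := d.hW
  hnt := d.hnt
  hfix := fun g hg => d.hfix g hg.symm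
  hnorm := d.hnorm

theorem not_mul (d : QuotData X W q r c A S ψ) {s t : ℕ} (hs : s.Prime) (ht : t.Prime) (hne : s ≠ t)
    {g : X} : orderOf g ≠ s * t := by
  intro e
  rcases d.hord g with e' | e' | e' | e' | e' <;> rw [e] at e'
  · exact hs.ne_one (mul_eq_one.1 e').1
  · exact Nat.not_prime_mul hs.ne_one ht.ne_one (e' ▸ Nat.prime_two)
  · exact Nat.not_prime_mul hs.ne_one ht.ne_one (e' ▸ d.hq)
  · exact Nat.not_prime_mul hs.ne_one ht.ne_one (e' ▸ d.hr)
  · have h1 : s ∣ 2 ^ 2 := ⟨t, e'.symm⟩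
    have h2 : t ∣ 2 ^ 2 := ⟨s, by rw [mul_comm]; exact e'.symm⟩
    exact hne (((Nat.prime_dvd_prime_iff_eq hs Nat.prime_two).1 (hs.dvd_of_dvd_pow h1)).trans
      ((Nat.prime_dvd_prime_iff_eq ht Nat.prime_two).1 (ht.dvd_of_dvd_pow h2)).symm)

theorem not_comm (d : QuotData X W q r c A S ψ) {s t : ℕ} (hs : s.Prime) (ht : t.Prime) (hne : s ≠ t)
    {g k : X} (hg : orderOf g = s) (hk : orderOf k = t) : ¬ Commute g k := fun hc =>
  d.not_mul hs ht hne (g := g * k) (by
    rw [hc.orderOf_mul_eq_mul_orderOf_of_coprime (by rw [hg, hk]; exact (Nat.coprime_primes hs ht).2 hne), hg, hk])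

theorem index_odd (d : QuotData X W q r c A S ψ) : ¬ 2 ∣ (S : Subgroup X).index := by
  intro hd
  rcases (Nat.Prime.dvd_mul Nat.prime_two).1 (hd.trans d.hm) with e | e
  · exact d.q2 ((Nat.prime_dvd_prime_iff_eq Nat.prime_two d.hq).1 e).symm
  · exact d.r2 ((Nat.prime_dvd_prime_iff_eq Nat.prime_two d.hr).1 e).symm

theorem case_qr [Fact (Nat.Prime 2)] (d : QuotData X W q r c A S ψ) (hz : 2 ^ c + 1 = q * r) : False := by
  haveI := d.hnt
  have hi : (Subgroup.normalizer ((S : Subgroup X) : Set X)).index = q * r :=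
    S.card_eq_index_normalizer.symm.trans (d.hn.trans hz)
  set N := Subgroup.normalizer ((S : Subgroup X) : Set X)
  have hSi : (S : Subgroup X).index = q * r :=
    Nat.dvd_antisymm d.hm (hi ▸ Subgroup.index_dvd_of_le Subgroup.le_normalizer)
  have hNS : N = S := by
    refine (Subgroup.eq_of_le_of_card_ge Subgroup.le_normalizer ?_).symm
    have e1 := N.card_mul_index
    have e2 := (S : Subgroup X).card_mul_index
    rw [hi] at e1
    rw [hSi, ← e1] at e2
    exact (Nat.eq_of_mul_eq_mul_right (Nat.mul_pos d.hq.pos d.hr.pos) e2).ge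
  have hc : N ≤ Subgroup.centralizer ((S : Subgroup X) : Set X) := by
    rw [hNS]
    exact fun x hx => Subgroup.mem_centralizer_iff.2 fun y hy => (FiveOrders.commute_of_sq d.hsq hy hx).eq
  have hcomp := MonoidHom.ker_transferSylow_isComplement' S hc
  set M := (MonoidHom.transferSylow S hc).ker
  have hM : Nat.card M = q * r := by rw [← hcomp.index_eq_card, hSi]
  refine no_qr d.hW (ψ.comp M.subtype) d.hq d.hr d.qr hM (fun m => ?_) fun m hm1 w hw => ?_
  · rw [← Subgroup.orderOf_coe]; exact d.not_mul d.hq d.hr d.qr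
  · refine d.hfix (m : X) ?_ w hw
    have hd : orderOf (m : X) ∣ q * r := by rw [Subgroup.orderOf_coe, ← hM]; exact orderOf_dvd_natCard m
    have hodd : ¬ 2 ∣ orderOf (m : X) := fun h2 => d.index_odd (hSi ▸ h2.trans hd)
    rcases d.hord (m : X) with e | e | e | e | e
    · exact absurd (Subtype.ext (orderOf_eq_one_iff.1 e)) hm1
    · exact absurd (by rw [e]) hodd
    · exact Or.inl e
    · exact Or.inr e
    · exact absurd (e ▸ (by norm_num : 2 ∣ 4)) hodd

theorem inverts (d : QuotData X W q r c A S ψ) {s : ℕ} [hs : Fact s.Prime] (s2 : s ≠ 2) {Q : Subgroup X}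
    (hQ : Nat.card Q = s) {x : X} (hx : x * x = 1) (hx1 : x ≠ 1) (hxn : x ∈ Subgroup.normalizer (Q : Set X))
    {g : X} (hg : g ∈ Q) : x * g * x⁻¹ = g⁻¹ := by
  haveI : IsCyclic Q := isCyclic_of_prime_card hQ
  have hg' : x * g * x⁻¹ ∈ Q := (Subgroup.mem_normalizer_iff.1 hxn g).1 hg
  have hcm : g * (x * g * x⁻¹) = x * g * x⁻¹ * g :=
    congrArg Subtype.val (mul_comm' (⟨g, hg⟩ : Q) ⟨_, hg'⟩)
  have hxi : x⁻¹ = x := inv_eq_of_mul_eq_one_right hx
  have hc : Commute x (g * (x * g * x⁻¹)) := by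
    show x * (g * (x * g * x⁻¹)) = g * (x * g * x⁻¹) * x
    calc x * (g * (x * g * x⁻¹)) = x * g * x⁻¹ * (x * x) * g * x⁻¹ := by group
      _ = x * g * x⁻¹ * g * x := by rw [hx, mul_one, hxi]
      _ = _ := by rw [← hcm]
  by_contra hne
  refine d.not_comm Nat.prime_two hs.out (Ne.symm s2) (orderOf_eq_prime (by rw [pow_two, hx]) hx1) ?_ hc
  refine orderOf_eq_prime (orderOf_dvd_iff_pow_eq_one.1 (hQ ▸ Subgroup.orderOf_dvd_natCard Q (mul_mem hg hg'))) ?_
  exact fun e => hne (eq_inv_of_mul_eq_one_right e)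

/-- A 2-subgroup normalizing a subgroup of odd prime order has order at most two. -/
theorem card_le_two [Fact (Nat.Prime 2)] (d : QuotData X W q r c A S ψ) {s : ℕ} [hs : Fact s.Prime] (s2 : s ≠ 2)
    {Q T : Subgroup X} (hQ : Nat.card Q = s) (hT : IsPGroup 2 T) (hTQ : T ≤ Subgroup.normalizer (Q : Set X)) :
    Nat.card T ≤ 2 := by
  obtain ⟨a, ha⟩ := FiveOrders.exists_conj_le S.2 (fun Y hY hle => (S.3 hY hle).le) hT
  have hsq : ∀ x ∈ T, x * x = 1 := fun x hx => by
    have := d.hsq _ (FiveOrders.mem_conjS.1 (ha hx))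
    calc x * x = a * (a⁻¹ * x * a * (a⁻¹ * x * a)) * a⁻¹ := by group
      _ = 1 := by rw [this]; group
  by_contra hlt
  obtain ⟨g, hg⟩ := exists_prime_orderOf_dvd_card' (G := Q) s (by rw [hQ])
  obtain ⟨x, hx, hx1⟩ := (Subgroup.bot_or_exists_ne_one T).resolve_left fun e => by
    rw [e, Subgroup.card_bot] at hlt; omega
  obtain ⟨y, hy, hy1, hyx⟩ : ∃ y ∈ T, y ≠ 1 ∧ y ≠ x := by
    by_contra hall
    push Not at hall
    apply hlt
    calc Nat.card T = (T : Set X).ncard := Nat.card_coe_set_eq _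
      _ ≤ ({1, x} : Set X).ncard := Set.ncard_le_ncard (fun y hy => by
          by_cases e : y = 1
          exacts [Or.inl e, Or.inr (hall y hy e)]) (Set.toFinite _)
      _ = 2 := Set.ncard_pair (Ne.symm hx1)
  have hxy : x * y ≠ 1 := fun e => hyx (by
    rw [mul_eq_one_iff_inv_eq, inv_eq_of_mul_eq_one_right (hsq x hx)] at e; exact e.symm)
  refine d.not_comm Nat.prime_two hs.out (Ne.symm s2)
    (orderOf_eq_prime (by rw [pow_two, hsq _ (mul_mem hx hy)]) hxy)
    (show orderOf (g : X) = s by rw [Subgroup.orderOf_coe, hg]) ?_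
  show x * y * (g : X) = g * (x * y)
  have h1 := d.inverts s2 hQ (hsq y hy) hy1 (hTQ hy) g.2
  have h2 := d.inverts s2 hQ (hsq x hx) hx1 (hTQ hx) (Q.inv_mem g.2)
  rw [inv_inv] at h2
  rw [← h1] at h2
  calc x * y * (g : X) = x * (y * g * y⁻¹) * x⁻¹ * (x * y) := by group
    _ = g * (x * y) := by rw [h2]

theorem case_prime [Fact (Nat.Prime 2)] (d : QuotData X W q r c A S ψ) (hz : 2 ^ c + 1 = q) :
    A = 1 ∨ (q = 5 ∧ r = 3) := by
  haveI := Fact.mk d.hq
  have hi : (Subgroup.normalizer ((S : Subgroup X) : Set X)).index = q :=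
    S.card_eq_index_normalizer.symm.trans (d.hn.trans hz)
  set N := Subgroup.normalizer ((S : Subgroup X) : Set X)
  obtain ⟨l, hl⟩ : q ∣ (S : Subgroup X).index := hi ▸ Subgroup.index_dvd_of_le Subgroup.le_normalizer
  have hlr : l ∣ r := (Nat.mul_dvd_mul_iff_left d.hq.pos).1 (hl ▸ d.hm)
  have hX : Nat.card X = 2 ^ A * (q * l) := by rw [← d.hA, ← hl, Subgroup.card_mul_index]
  have hql : ¬ q ∣ l := fun e => d.qr ((Nat.prime_dvd_prime_iff_eq d.hq d.hr).1 (e.trans hlr))
  have hq2A : ¬ q ∣ 2 ^ A := fun e => d.q2 ((Nat.prime_dvd_prime_iff_eq d.hq Nat.prime_two).1 (d.hq.dvd_of_dvd_pow e))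
  obtain ⟨Q⟩ : Nonempty (Sylow q X) := inferInstance
  have hQ : Nat.card Q = q := by
    obtain ⟨j, hj⟩ := Q.2.exists_card_eq
    have h1 : q ∣ Nat.card Q := Q.dvd_card_of_dvd_card (hX ▸ Dvd.dvd.mul_left (dvd_mul_right q l) _)
    have h2 : Nat.card Q ∣ 2 ^ A * (q * l) := hX ▸ Subgroup.card_subgroup_dvd_card _
    rcases j with _ | _ | j
    · rw [hj, pow_zero, Nat.dvd_one] at h1; exact absurd h1 d.hq.ne_one
    · rw [hj, zero_add, pow_one]
    · exfalso
      rw [hj] at h2
      have h3 : q * q ∣ q * (2 ^ A * l) := by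
        refine dvd_trans ⟨q ^ j, by ring⟩ (h2.trans (dvd_of_eq (by ring)))
      rcases d.hq.dvd_mul.1 ((Nat.mul_dvd_mul_iff_left d.hq.pos).1 h3) with e | e
      exacts [hq2A e, hql e]
  set E := Subgroup.normalizer ((Q : Subgroup X) : Set X) with hE
  have hnq := card_sylow_modEq_one q X
  rw [Q.card_eq_index_normalizer] at hnq
  change E.index ≡ 1 [MOD q] at hnq
  have hEX := E.card_mul_index
  rw [hX] at hEX
  have hQE : q ∣ Nat.card E := hQ ▸ Subgroup.card_dvd_of_le Subgroup.le_normalizer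
  obtain ⟨e, he⟩ := hQE
  have hei : e * E.index = 2 ^ A * l := Nat.eq_of_mul_eq_mul_left d.hq.pos (by rw [← mul_assoc, ← he, hEX]; ring)
  obtain ⟨S₂⟩ : Nonempty (Sylow 2 E) := inferInstance
  have hS2 : Nat.card S₂ ≤ 2 := by
    have := d.card_le_two d.q2 hQ (S₂.2.map E.subtype) (Subgroup.map_subtype_le _)
    rwa [Subgroup.card_map_of_injective E.subtype_injective] at this
  obtain ⟨b, -, hb⟩ : ∃ b ≤ A, E.index.factorization 2 = b ∧ A ≤ b + 1 := by
    have hl2 : l.factorization 2 = 0 := Nat.factorization_eq_zero_of_not_dvd fun e => d.r2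
      ((Nat.prime_dvd_prime_iff_eq Nat.prime_two d.hr).1 (e.trans hlr)).symm
    have he0 : e ≠ 0 := fun e0 => by rw [e0, mul_zero] at he; exact Nat.card_pos.ne' he
    have hl0 : l ≠ 0 := fun e0 => d.hr.ne_zero (Nat.eq_zero_of_zero_dvd (e0 ▸ hlr))
    have h1 := congrArg (fun n => Nat.factorization n 2) hei
    simp only [Nat.factorization_mul he0 Subgroup.index_ne_zero_of_finite, Finsupp.coe_add, Pi.add_apply,
      Nat.factorization_mul (pow_ne_zero A two_ne_zero) hl0, Nat.prime_two.factorization_pow,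
      Finsupp.single_eq_same, hl2, add_zero] at h1
    have h2 : e.factorization 2 ≤ 1 := by
      have h3 : Nat.card S₂ = 2 ^ (Nat.card E).factorization 2 := S₂.card_eq_multiplicity
      rw [he, Nat.factorization_mul d.hq.ne_zero he0, Finsupp.coe_add, Pi.add_apply,
        Nat.factorization_eq_zero_of_not_dvd (fun h => d.q2 ((Nat.prime_dvd_prime_iff_eq Nat.prime_two d.hq).1 h).symm),
        zero_add] at h3
      exact (Nat.pow_le_pow_iff_right (le_refl 2)).1 (by rw [← h3, pow_one]; exact hS2)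
    exact ⟨_, by omega, rfl, by omega⟩
  obtain ⟨hbA, hbA'⟩ := hb
  have hA2 : 2 ^ A ≤ 2 ^ c := Nat.pow_le_pow_right two_pos d.Ac
  rcases (Nat.dvd_prime d.hr).1 hlr with rfl | rfl
  · -- `q` is the whole odd part
    rw [mul_one] at hei
    left
    have h1 : E.index = 1 := by
      have hle : E.index ≤ 2 ^ A := Nat.le_of_dvd (Nat.two_pow_pos A) ⟨e, by rw [← hei, mul_comm]⟩
      rw [Nat.ModEq, Nat.mod_eq_of_lt (show E.index < q by omega), Nat.one_mod_eq_one.2 d.hq.ne_one] at hnq
      exact hnq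
    have := d.card_le_two d.q2 hQ S.2 (by rw [← hE, Subgroup.index_eq_one.1 h1]; exact le_top)
    rw [d.hA] at this
    have := (Nat.pow_le_pow_iff_right (le_refl 2)).1 (this.trans (pow_one 2).ge)
    have := d.A1
    omega
  · -- both primes divide the order
    rename' l => r'
    haveI := Fact.mk d.hr
    right
    have hr3 : 3 ≤ r' := by have := d.hr.two_le; have := d.r2; omega
    have hN : Nat.card N = 2 ^ A * r' := Nat.eq_of_mul_eq_mul_right d.hq.pos (by
      rw [← hi, N.card_mul_index, hX, hi]; ring)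
    obtain ⟨g, hg⟩ := exists_prime_orderOf_dvd_card' (G := N) r' (hN ▸ dvd_mul_left r' _)
    have hgo : orderOf (g : X) = r' := by rw [Subgroup.orderOf_coe, hg]
    have hrc : r' ∣ 2 ^ c - 1 := d.hnorm g g.2 r' d.hr d.r2 hgo
    have hzg : ∀ t ∈ Subgroup.zpowers (g : X), t ≠ 1 → orderOf t = r' := fun t ht ht1 =>
      ((Nat.dvd_prime d.hr).1 (by
        rw [← hgo, ← Nat.card_zpowers (g : X)]; exact Subgroup.orderOf_dvd_natCard _ ht)).resolve_left
        fun e => ht1 (orderOf_eq_one_iff.1 e)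
    have hrA : r' ∣ 2 ^ A - 1 := by
      rw [← hgo, ← Nat.card_zpowers, ← d.hA]
      refine FiveOrders.dvd_card_sub_one (Subgroup.zpowers_le.2 g.2) fun t ht ht1 x hx hx1 => ?_
      exact d.not_comm d.hr Nat.prime_two d.r2 (hzg t ht ht1)
        (orderOf_eq_prime (by rw [pow_two, d.hsq x hx]) hx1)
    have hre : ¬ r' ∣ e := by
      intro hre
      obtain ⟨k, hk⟩ := exists_prime_orderOf_dvd_card' (G := E) r' (he ▸ hre.mul_left q)
      have hko : orderOf (k : X) = r' := by rw [Subgroup.orderOf_coe, hk]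
      have h1 : r' ∣ q - 1 := by
        rw [← hko, ← Nat.card_zpowers, ← hQ]
        refine FiveOrders.dvd_card_sub_one (Subgroup.zpowers_le.2 k.2) fun t ht ht1 x hx hx1 => ?_
        refine d.not_comm d.hr d.hq d.qr.symm ?_ ?_
        · exact ((Nat.dvd_prime d.hr).1 (by
            rw [← hko, ← Nat.card_zpowers (k : X)]; exact Subgroup.orderOf_dvd_natCard _ ht)).resolve_left
            fun e => ht1 (orderOf_eq_one_iff.1 e)
        · exact ((Nat.dvd_prime d.hq).1 (hQ ▸ Subgroup.orderOf_dvd_natCard _ hx)).resolve_left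
            fun e => hx1 (orderOf_eq_one_iff.1 e)
      rw [← hz, Nat.add_sub_cancel] at h1
      exact d.r2 ((Nat.prime_dvd_prime_iff_eq d.hr Nat.prime_two).1 (d.hr.dvd_of_dvd_pow h1))
    have hindex : E.index = 2 ^ b * r' := by
      have h1 : r' ∣ E.index :=
        (d.hr.dvd_mul.1 (hei ▸ dvd_mul_left r' (2 ^ A))).resolve_left hre
      obtain ⟨w, hw⟩ := h1
      have h2 : w ∣ 2 ^ A := (Nat.mul_dvd_mul_iff_left d.hr.pos).1
        (hw ▸ ⟨e, by rw [mul_comm r' (2 ^ A), ← hei, hw]; ring⟩)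
      obtain ⟨i, -, rfl⟩ := (Nat.dvd_prime_pow Nat.prime_two).1 h2
      have h3 := congrArg (fun n => Nat.factorization n 2) hw
      simp only [Nat.factorization_mul d.hr.ne_zero (pow_ne_zero i two_ne_zero), Finsupp.coe_add, Pi.add_apply,
        Nat.prime_two.factorization_pow, Finsupp.single_eq_same, hbA,
        Nat.factorization_eq_zero_of_not_dvd
          (fun h => d.r2 ((Nat.prime_dvd_prime_iff_eq Nat.prime_two d.hr).1 h).symm), zero_add] at h3
      rw [hw, h3, mul_comm]
    rw [hindex] at hnq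
    have hA2' : 2 ≤ A := by
      by_contra hlt
      have h1 : A = 1 := by have := d.A1; omega
      rw [h1] at hrA
      have := Nat.le_of_dvd (by norm_num) hrA
      omega
    have hbc : b ≤ c := by
      have := d.Ac
      by_contra hlt
      have h1 : 2 ^ b ∣ 2 ^ A * r' := by rw [← hei, hindex]; exact Dvd.intro (e * r') (by ring)
      have h2 := (Nat.pow_dvd_pow_iff_le_right (le_refl 2)).1 ((Nat.Coprime.pow_left b
        ((Nat.coprime_primes Nat.prime_two d.hr).2 d.r2.symm)).dvd_of_dvd_mul_right h1)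
      omega
    -- `q ∣ r + 2 ^ (c - b)`
    obtain ⟨m, hm⟩ := Nat.exists_eq_add_of_le hbc
    have hdiv : (q : ℤ) ∣ (r' : ℤ) + 2 ^ m := by
      have h1 : (q : ℤ) ∣ (2 ^ b * r' : ℕ) - 1 := by
        have := Nat.modEq_iff_dvd.1 hnq.symm
        simpa using this
      have e : (r' : ℤ) + 2 ^ m = (q : ℤ) * r' - 2 ^ m * (((2 ^ b * r' : ℕ) : ℤ) - 1) := by
        push_cast [← hz, hm, pow_add]
        ring
      rw [e]
      exact dvd_sub (dvd_mul_right _ _) (h1.mul_left _)
    have hdiv' : q ∣ r' + 2 ^ m := by exact_mod_cast hdiv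
    have hrle : r' ≤ 2 ^ c - 1 := Nat.le_of_dvd (by have := Nat.pow_le_pow_right two_pos (show 1 ≤ c by omega); omega) hrc
    have hmc : 2 ^ m ≤ 2 ^ c := Nat.pow_le_pow_right two_pos (by omega)
    have heq : r' + 2 ^ m = q := by
      obtain ⟨t, ht⟩ := hdiv'
      have := Nat.two_pow_pos m
      rcases t with _ | _ | t
      · rw [mul_zero] at ht
        omega
      · omega
      · exfalso
        have : q * 2 ≤ q * (t + 1 + 1) := Nat.mul_le_mul_left _ (by omega)
        omega
    have hAc : A = c := by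
      by_contra hne
      have h1 : 2 ^ A ≤ 2 ^ (c - 1) := Nat.pow_le_pow_right two_pos (by have := d.Ac; omega)
      have h2 : 2 ^ m ≤ 2 ^ (c - 1) := Nat.pow_le_pow_right two_pos (by omega)
      have h3 : 2 ^ c = 2 * 2 ^ (c - 1) := by rw [← pow_succ']; congr 1; omega
      have h4 := Nat.le_of_dvd (by have := Nat.pow_le_pow_right two_pos hA2'; omega) hrA
      omega
    have hm1 : m = 1 := by
      rcases (show m = 0 ∨ m = 1 by omega) with rfl | rfl
      · exfalso
        have : 2 ∣ r' := ⟨2 ^ (c - 1), by rw [← pow_succ', show c - 1 + 1 = c by omega]; omega⟩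
        exact d.r2 ((Nat.prime_dvd_prime_iff_eq Nat.prime_two d.hr).1 this).symm
      · rfl
    rw [hm1, pow_one] at heq
    have h3 : 3 ∣ r' ∨ 3 ∣ q := by
      have : 2 ^ c % 3 ≠ 0 := fun h0 => by
        have := (Nat.prime_three).dvd_of_dvd_pow (Nat.dvd_of_mod_eq_zero h0)
        omega
      omega
    rcases h3 with h3 | h3
    · have := (Nat.prime_dvd_prime_iff_eq Nat.prime_three d.hr).1 h3
      exact ⟨by omega, this.symm⟩
    · have := (Nat.prime_dvd_prime_iff_eq Nat.prime_three d.hq).1 h3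
      omega

theorem conclude [Fact (Nat.Prime 2)] (d : QuotData X W q r c A S ψ) :
    A = 1 ∨ (q = 5 ∧ r = 3) ∨ (r = 5 ∧ q = 3) := by
  have hd : 2 ^ c + 1 ∣ q * r := by
    rw [← d.hn, S.card_eq_index_normalizer]
    exact (Subgroup.index_dvd_of_le Subgroup.le_normalizer).trans d.hm
  have h1 : 1 ≤ 2 ^ c := Nat.one_le_two_pow
  rcases Nat.dvd_mul.1 hd with ⟨a, b, ha, hb, hab⟩
  rcases (Nat.dvd_prime d.hq).1 ha with rfl | rfl <;> rcases (Nat.dvd_prime d.hr).1 hb with rfl | rfl
  · omega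
  · rcases d.symm.case_prime (by rw [← hab, one_mul]) with e | e
    exacts [Or.inl e, Or.inr (Or.inr e)]
  · rcases d.case_prime (by rw [← hab, mul_one]) with e | e
    exacts [Or.inl e, Or.inr (Or.inl e)]
  · exact (d.case_qr hab.symm).elim

end QuotData

variable {G : Type u} [Group G] [Finite G] {q r : ℕ}

theorem concl_of_five [IsSimpleGroup G] (h : Orders G q r 4) (hq : q = 5) (hr : r = 3) : Concl G := by
  subst hq hr
  rcases S3433.result (G := G) (by
    show spec G = _
    rw [h.spec_eq]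
    ext x
    simp only [Set.mem_insert_iff, Set.mem_singleton_iff, Set.mem_setOf_eq]
    omega) with e | ⟨N, hN, hel, ⟨e⟩⟩
  · exact Or.inr (Or.inl e)
  · rcases IsSimpleGroup.eq_bot_or_eq_top_of_normal N hN with rfl | rfl
    · exact Or.inl ⟨(QuotientGroup.quotientBot).symm.trans e⟩
    · exfalso
      have h1 := Nat.card_congr e.toEquiv
      rw [← Subgroup.index_eq_card, Subgroup.index_top, nat_card_alternatingGroup, Nat.card_eq_fintype_card,
        Fintype.card_fin] at h1
      norm_num [Nat.factorial] at h1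

/-- At a maximal intersection the Sylow 2-subgroup of the normalizer has order `2 |D|`. -/
theorem MaxInter.two_mul_eq [IsSimpleGroup G] [Fact (Nat.Prime 2)] {D : Subgroup G} (M : MaxInter D)
    (h : Orders G q r 4) {R : Sylow 2 G} (hR : D ≤ R) :
    Concl G ∨ Nat.card ↥((R : Subgroup G) ⊓ Subgroup.normalizer (D : Set G)) = 2 * Nat.card D := by
  classical
  set K := Subgroup.normalizer (D : Set G) with hK
  haveI : (D.subgroupOf K).Normal := Subgroup.normal_in_normalizer
  obtain ⟨T, hT⟩ := M.exists_sylow_inter R hR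
  set π := QuotientGroup.mk' (D.subgroupOf K) with hπ
  have hπsur : Function.Surjective π := QuotientGroup.mk'_surjective _
  have hπ1 : ∀ g : K, π g = 1 ↔ (g : G) ∈ D := fun g => QuotientGroup.eq_one_iff g
  set S := T.mapSurjective hπsur
  letI : CommGroup D := { (inferInstance : Group D) with mul_comm := fun a b => Subtype.ext (M.comm h a.2 b.2) }
  let ψ : K ⧸ D.subgroupOf K →* MulAut D := QuotientGroup.lift _ (Subgroup.normalizerMonoidHom D) (by
    intro g hg
    rw [MonoidHom.mem_ker]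
    refine MulEquiv.ext fun x => Subtype.ext ?_
    show (g : G) * x * (g : G)⁻¹ = x
    rw [(M.comm h (Subgroup.mem_subgroupOf.1 hg) x.2).eq, mul_inv_cancel_right])
  have hspec : ∀ g : K ⧸ D.subgroupOf K, orderOf g ∈ spec G := fun g => by
    obtain ⟨y, rfl⟩ := hπsur g
    exact dvd_mem_spec (mem_spec (y : G)) (by rw [Subgroup.orderOf_coe]; exact orderOf_map_dvd π y)
  have hlift : ∀ (y : K) (p : ℕ), p.Prime → p ≠ 2 → orderOf (π y) = p → orderOf (y : G) = p := by
    intro y p hp p2 hg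
    have hd : p ∣ orderOf (y : G) := by
      rw [Subgroup.orderOf_coe, ← hg]; exact orderOf_map_dvd _ y
    rcases h.cases (y : G) with e | e | e | e | e <;> rw [e] at hd ⊢
    · exact absurd (Nat.dvd_one.1 hd) hp.ne_one
    · exact absurd ((Nat.prime_dvd_prime_iff_eq hp Nat.prime_two).1 hd) p2
    · exact ((Nat.prime_dvd_prime_iff_eq hp h.hq).1 hd).symm
    · exact ((Nat.prime_dvd_prime_iff_eq hp h.hr).1 hd).symm
    · exact absurd ((Nat.prime_dvd_prime_iff_eq hp Nat.prime_two).1 (hp.dvd_of_dvd_pow (show p ∣ 2 ^ 2 from hd))) p2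
  have hTD : D.subgroupOf K ≤ T := fun d hd => by
    obtain ⟨y, hy, hyd⟩ := hT.ge ⟨hR hd, d.2⟩
    exact (Subtype.ext hyd : y = d) ▸ hy
  have hcomap : ∀ T' : Sylow 2 K, D.subgroupOf K ≤ T' := by
    intro T'
    have h1 := T'.2.to_sup_of_normal_right
      (M.two.of_equiv (Subgroup.subgroupOfEquivOfLe Subgroup.le_normalizer).symm : IsPGroup 2 (D.subgroupOf K))
    rw [← T'.3 h1 le_sup_left]
    exact le_sup_right
  have hn : Nat.card (Sylow 2 (K ⧸ D.subgroupOf K)) = Nat.card (Sylow 2 K) := by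
    refine (Nat.card_congr (Equiv.ofBijective (fun T' : Sylow 2 K => T'.mapSurjective hπsur)
      ⟨fun T₁ T₂ e => Sylow.ext ?_, Sylow.mapSurjective_surjective hπsur 2⟩)).symm
    have e' : (T₁ : Subgroup K).map π = (T₂ : Subgroup K).map π :=
      congrArg Sylow.toSubgroup e
    have hk : ∀ T' : Sylow 2 K, ((T' : Subgroup K).map π).comap π = (T' : Subgroup K) := fun T' => by
      rw [Subgroup.comap_map_eq, QuotientGroup.ker_mk', sup_eq_left.2 (hcomap T')]
    rw [← hk T₁, e', hk T₂]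
  obtain ⟨c, hc⟩ : ∃ c, Nat.card (zc (R : Subgroup G)) = 2 ^ c :=
    (R.2.to_le (inf_le_left : zc (R : Subgroup G) ≤ R)).exists_card_eq
  obtain ⟨A, hA⟩ := S.2.exists_card_eq
  have hTc : Nat.card T = Nat.card ↥((R : Subgroup G) ⊓ K) := by
    rw [← hT, Subgroup.card_map_of_injective K.subtype_injective]
  have hDc : Nat.card (D.subgroupOf K) = Nat.card D :=
    Nat.card_congr (Subgroup.subgroupOfEquivOfLe Subgroup.le_normalizer).toEquiv
  have hST : Nat.card S * Nat.card D = Nat.card T := by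
    have e1 : (S : Subgroup (K ⧸ D.subgroupOf K)).index = (T : Subgroup K).index :=
      Subgroup.index_map_eq _ hπsur (by rw [QuotientGroup.ker_mk']; exact hTD)
    have e2 := (S : Subgroup (K ⧸ D.subgroupOf K)).card_mul_index
    have e3 := (T : Subgroup K).card_mul_index
    rw [Subgroup.card_eq_card_quotient_mul_card_subgroup (D.subgroupOf K), ← e2, e1, hDc] at e3
    exact (Nat.eq_of_mul_eq_mul_right (Nat.pos_of_ne_zero Subgroup.index_ne_zero_of_finite)
      (e3.trans (mul_right_comm _ _ _))).symm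
  have hlow := M.two_mul_le hR
  have hupp := M.card_inter_le h hR
  rw [← hTc, ← hST, hA] at hlow hupp
  rw [hc] at hupp
  have hA1 : 1 ≤ A := by
    rcases A with _ | A
    · have := Nat.card_pos (α := D); omega
    · omega
  have hAc : A ≤ c := (Nat.pow_le_pow_iff_right (le_refl 2)).1 (Nat.le_of_mul_le_mul_right hupp Nat.card_pos)
  have hm : (S : Subgroup (K ⧸ D.subgroupOf K)).index ∣ q * r := by
    rw [show (S : Subgroup (K ⧸ D.subgroupOf K)).index = (T : Subgroup K).index from
      Subgroup.index_map_eq _ hπsur (by rw [QuotientGroup.ker_mk']; exact hTD)]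
    rw [Nat.dvd_iff_prime_pow_dvd_dvd]
    intro p n hp hdvd
    rcases n with _ | n
    · simp
    haveI := Fact.mk hp
    have hp2 : p ≠ 2 := by
      rintro rfl
      exact T.not_dvd_index ((dvd_pow_self 2 n.succ_ne_zero).trans hdvd)
    have hpG : p ∣ Nat.card G := ((dvd_pow_self p n.succ_ne_zero).trans hdvd).trans
      ((Subgroup.index_dvd_card _).trans (Subgroup.card_subgroup_dvd_card K))
    obtain ⟨P⟩ : Nonempty (Sylow p K) := inferInstance
    have hle := card_pgroup_le_of_fpf (P.2.map K.subtype)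
      (fun a ha => sylow_pow_prime h hp hp2 (P.2.map K.subtype) ha) M.ne (Subgroup.map_subtype_le _)
      (fun hd => hp2 (by
        obtain ⟨k, hk⟩ := M.two.exists_card_eq
        exact (Nat.prime_dvd_prime_iff_eq hp Nat.prime_two).1 (hp.dvd_of_dvd_pow (hk ▸ hd))))
      (fun a ha ha1 d hd hcd => M.fpf h hp hp2
        (orderOf_eq_prime (sylow_pow_prime h hp hp2 (P.2.map K.subtype) ha) ha1) hd hcd)
    rw [Subgroup.card_map_of_injective K.subtype_injective] at hle
    have hn1 : n = 0 := by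
      have h2 : p ^ (n + 1) ≤ Nat.card P := Nat.le_of_dvd Nat.card_pos
        (P.pow_dvd_card_of_pow_dvd_card (hdvd.trans (Subgroup.index_dvd_card _)))
      by_contra hn0
      have h3 : p ^ 1 < p ^ (n + 1) := Nat.pow_lt_pow_right hp.one_lt (by omega)
      rw [pow_one] at h3
      omega
    subst hn1
    rw [zero_add, pow_one]
    rcases h.prime_cases (by norm_num) hp hpG with e | e | e
    · exact absurd e hp2
    · exact e ▸ dvd_mul_right q r
    · exact e ▸ dvd_mul_left r q
  have d : QuotData (K ⧸ D.subgroupOf K) D q r c A S ψ :=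
    { hq := h.hq
      hr := h.hr
      q2 := h.q2
      r2 := h.r2
      qr := h.qr
      hord := fun g => (mem_iff h).1 (hspec g)
      hsq := by
        rintro _ ⟨x, hx, rfl⟩
        have hxR : (x : G) ∈ (R : Subgroup G) ⊓ K := hT.le ⟨x, hx, rfl⟩
        rw [← map_mul, hπ1]
        exact M.sq_mem h hR hxR.1 hxR.2
      hA := hA
      A1 := hA1
      Ac := hAc
      hn := by rw [hn, ← M.card_above, M.card_above_eq h R, hc]
      hm := hm
      hW := fun w => Subtype.ext (M.sq h w.2)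
      hnt := D.nontrivial_iff_ne_bot.2 M.ne
      hfix := by
        intro g hg w hw
        obtain ⟨y, rfl⟩ := hπsur g
        have e := congrArg Subtype.val hw
        change (y : G) * w * (y : G)⁻¹ = w at e
        obtain ⟨p, hp, hp2, hgp⟩ : ∃ p, p.Prime ∧ p ≠ 2 ∧ orderOf (π y) = p := hg.elim
          (fun e => ⟨q, h.hq, h.q2, e⟩) (fun e => ⟨r, h.hr, h.r2, e⟩)
        exact Subtype.ext (M.fpf h hp hp2 (hlift y p hp hp2 hgp) w.2 (mul_inv_eq_iff_eq_mul.1 e))
      hnorm := by
        intro g hg s hs s2 hgs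
        obtain ⟨y, rfl⟩ := hπsur g
        have hyo := hlift y s hs s2 hgs
        have hyT : ∀ x ∈ (T : Subgroup K), y * x * y⁻¹ ∈ (T : Subgroup K) := by
          intro x hx
          have h1 : π (y * x * y⁻¹) ∈ (S : Subgroup (K ⧸ D.subgroupOf K)) := by
            rw [map_mul, map_mul, map_inv]
            exact (Subgroup.mem_normalizer_iff.1 hg _).1 ⟨x, hx, rfl⟩
          obtain ⟨x', hx', he⟩ := h1
          have h2 : x'⁻¹ * (y * x * y⁻¹) ∈ (T : Subgroup K) := hTD ((hπ1 (x'⁻¹ * (y * x * y⁻¹))).1 (by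
            rw [map_mul, map_inv, he, inv_mul_cancel]))
          simpa using T.1.mul_mem hx' h2
        have hRy : FiveOrders.conjS (y : G) (R : Subgroup G) = R := by
          obtain ⟨x, hxR, hxK, hxD⟩ := M.grow R hR
          have hDy : D ≤ ((y : G) • R : Sylow 2 G) := fun d hd => by
            rw [Sylow.coe_subgroup_smul, Subgroup.mem_pointwise_smul_iff_inv_smul_mem, ← map_inv, MulAut.smul_def,
              MulAut.conj_apply, inv_inv]
            exact hR (by simpa using (Subgroup.mem_normalizer_iff.1 (inv_mem y.2) d).1 hd)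
          obtain ⟨x', hx', hxe⟩ := hT.ge ⟨hxR, hxK⟩
          have hy' : y * x' * y⁻¹ ∈ (T : Subgroup K) := hyT x' hx'
          have h1 : (y : G) * x * (y : G)⁻¹ ∈ (R : Subgroup G) := by
            have := (hT.le ⟨_, hy', rfl⟩).1
            rw [← hxe]; exact this
          have h2 : (y : G) * x * (y : G)⁻¹ ∈ (((y : G) • R : Sylow 2 G) : Subgroup G) := by
            rw [Sylow.coe_subgroup_smul, Subgroup.mem_pointwise_smul_iff_inv_smul_mem, ← map_inv, MulAut.smul_def,
              MulAut.conj_apply, inv_inv]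
            simpa [mul_assoc] using hxR
          have e := congrArg Sylow.toSubgroup (M.up _ R hDy hR _ h2 h1
            fun hm => hxD ((Subgroup.mem_normalizer_iff.1 y.2 x).2 hm))
          rw [Sylow.coe_subgroup_smul] at e
          exact e
        rw [← hc, ← hyo, ← Nat.card_zpowers]
        have hyn := FiveOrders.conjS_eq_iff_mem_normalizer.1 hRy
        refine FiveOrders.dvd_card_sub_one (Subgroup.zpowers_le.2
          (FiveOrders.mem_normalizer_of_conj fun w hw => ?_)) fun t ht ht1 x hx hx1 hcm => ?_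
        · refine mem_zc.2 ⟨(Subgroup.mem_normalizer_iff.1 hyn w).1 (mem_zc.1 hw).1, fun a ha => ?_⟩
          have h1 := (Subgroup.mem_normalizer_iff.1 (inv_mem hyn) a).1 ha
          have h2 := ((mem_zc.1 hw).2 _ h1).map (MulAut.conj (y : G)).toMonoidHom
          simpa [mul_assoc] using h2
        · refine hx1 (M.fpf h hs s2 (y := t) ?_ (M.zc_le h hR hx) hcm)
          exact ((Nat.dvd_prime hs).1 (by
            rw [← hyo, ← Nat.card_zpowers (y : G)]; exact Subgroup.orderOf_dvd_natCard _ ht)).resolve_left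
            fun e => ht1 (orderOf_eq_one_iff.1 e) }
  rcases d.conclude with rfl | ⟨e1, e2⟩ | ⟨e1, e2⟩
  · right; rw [← hTc, ← hST, hA, pow_one]
  · exact Or.inl (concl_of_five h e1 e2)
  · exact Or.inl (concl_of_five h.symm e1 e2)

end Cfsg.Agent.GroupStructure3.FiveOrbits.Four
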