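import Cfsg.Agent.GroupStructure3.FiveOrbits.Four.Fpf

/-!
# Maximal intersections of two Sylow 2-subgroups and their normalizers
-/

set_option autoImplicit false

namespace Cfsg.Agent.GroupStructure3.FiveOrbits.Four

open FiveOrders (conjS mem_conjS card_conjS)

universe u

variable {G : Type u} [Group G] [Finite G]

/-- An intersection of two Sylow 2-subgroups, maximal for inclusion. -/
structure MaxInter (D : Subgroup G) : Prop where
  ne : D ≠ ⊥
  ex : ∃ P Q : Sylow 2 G, P ≠ Q ∧ D ≤ P ∧ D ≤ Q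
  up : ∀ R S : Sylow 2 G, D ≤ R → D ≤ S → ∀ x, x ∈ (R : Subgroup G) → x ∈ (S : Subgroup G) → x ∉ D → R = S

variable [Fact (Nat.Prime 2)]

omit [Fact (Nat.Prime 2)] in
theorem exists_maxInter {A : Subgroup G} (hA : A ≠ ⊥) {P Q : Sylow 2 G} (hPQ : P ≠ Q) (hP : A ≤ P) (hQ : A ≤ Q) :
    ∃ D : Subgroup G, MaxInter D ∧ A ≤ D := by
  classical
  set I := {c : Sylow 2 G × Sylow 2 G | c.1 ≠ c.2 ∧ A ≤ c.1 ∧ A ≤ c.2}
  obtain ⟨⟨S, T⟩, ⟨hST, hAS, hAT⟩, hmax0⟩ := Set.exists_max_image I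
    (fun c => Nat.card ↥((c.1 : Subgroup G) ⊓ c.2)) (Set.toFinite I) ⟨(P, Q), hPQ, hP, hQ⟩
  refine ⟨(S : Subgroup G) ⊓ T, ⟨fun e => hA (le_bot_iff.1 ((le_inf hAS hAT).trans e.le)),
    ⟨S, T, hST, inf_le_left, inf_le_right⟩, fun R U hR hU x hxR hxU hx => ?_⟩, le_inf hAS hAT⟩
  by_contra hne
  have h1 : Nat.card ↥((R : Subgroup G) ⊓ U) ≤ Nat.card ↥((S : Subgroup G) ⊓ T) :=
    hmax0 (R, U) ⟨hne, (le_inf hAS hAT).trans hR, (le_inf hAS hAT).trans hU⟩
  exact hx (by rw [Subgroup.eq_of_le_of_card_ge (le_inf hR hU) h1]; exact ⟨hxR, hxU⟩)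

namespace MaxInter

variable {D : Subgroup G}

omit [Fact (Nat.Prime 2)] in
theorem two (M : MaxInter D) : IsPGroup 2 D := by
  obtain ⟨P, _, _, hP, _⟩ := M.ex
  exact P.2.to_le hP

omit [Fact (Nat.Prime 2)] in
theorem ne_sylow (M : MaxInter D) (R : Sylow 2 G) : D ≠ R := by
  intro e
  obtain ⟨P, Q, hne, hP, hQ⟩ := M.ex
  exact hne ((Sylow.ext (R.3 P.2 (e ▸ hP))).trans (Sylow.ext (R.3 Q.2 (e ▸ hQ))).symm)

theorem grow (M : MaxInter D) (R : Sylow 2 G) (hR : D ≤ R) :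
    ∃ x ∈ (R : Subgroup G), x ∈ Subgroup.normalizer (D : Set G) ∧ x ∉ D := by
  haveI := R.2.isNilpotent
  have hlt : D.subgroupOf (R : Subgroup G) < ⊤ := by
    rw [lt_top_iff_ne_top, ne_eq, Subgroup.subgroupOf_eq_top]
    exact fun h => M.ne_sylow R (le_antisymm hR h)
  obtain ⟨x, hx, hxD⟩ := SetLike.exists_of_lt (Group.normalizerCondition_of_isNilpotent _ hlt)
  refine ⟨x, x.2, FiveOrders.mem_normalizer_of_conj fun d hd => ?_, fun h => hxD h⟩
  exact ((Subgroup.mem_normalizer_iff.1 hx) ⟨d, hR hd⟩).1 hd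

theorem exists_sylow_inter (M : MaxInter D) (R : Sylow 2 G) (hR : D ≤ R) :
    ∃ T : Sylow 2 ↥(Subgroup.normalizer (D : Set G)),
      (T : Subgroup ↥(Subgroup.normalizer (D : Set G))).map (Subgroup.subtype _) = (R : Subgroup G) ⊓ Subgroup.normalizer (D : Set G) := by
  set K := Subgroup.normalizer (D : Set G)
  obtain ⟨T, hT⟩ := ((R.2.to_le (inf_le_left : (R : Subgroup G) ⊓ K ≤ R)).of_equiv
    (Subgroup.subgroupOfEquivOfLe inf_le_right).symm).exists_le_sylow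
  obtain ⟨S, hS⟩ := (T.2.map K.subtype).exists_le_sylow
  have hle : (R : Subgroup G) ⊓ K ≤ (T : Subgroup K).map K.subtype := fun x hx => ⟨⟨x, hx.2⟩, hT hx, rfl⟩
  obtain ⟨x, hxR, hxK, hxD⟩ := M.grow R hR
  have he : R = S := M.up R S hR ((le_inf hR Subgroup.le_normalizer).trans (hle.trans hS)) x hxR
    (hS (hle ⟨hxR, hxK⟩)) hxD
  exact ⟨T, le_antisymm (le_inf (hS.trans (he ▸ le_rfl)) (Subgroup.map_subtype_le _)) hle⟩

theorem exists_above (M : MaxInter D) (T : Sylow 2 ↥(Subgroup.normalizer (D : Set G))) :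
    ∃ R : Sylow 2 G, D ≤ R ∧
      (T : Subgroup ↥(Subgroup.normalizer (D : Set G))).map (Subgroup.subtype _) = (R : Subgroup G) ⊓ Subgroup.normalizer (D : Set G) := by
  have hDT : D.subgroupOf (Subgroup.normalizer (D : Set G)) ≤ T := by
    haveI : (D.subgroupOf (Subgroup.normalizer (D : Set G))).Normal := Subgroup.normal_in_normalizer
    have h1 := T.2.to_sup_of_normal_right (M.two.of_equiv (Subgroup.subgroupOfEquivOfLe Subgroup.le_normalizer).symm :
      IsPGroup 2 (D.subgroupOf (Subgroup.normalizer (D : Set G))))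
    rw [← T.3 h1 le_sup_left]
    exact le_sup_right
  obtain ⟨R, hR⟩ := (T.2.map (Subgroup.normalizer (D : Set G)).subtype).exists_le_sylow
  have hDR : D ≤ R := fun d hd => hR ⟨⟨d, Subgroup.le_normalizer hd⟩, hDT hd, rfl⟩
  obtain ⟨T', hT'⟩ := M.exists_sylow_inter R hDR
  refine ⟨R, hDR, ?_⟩
  rw [← hT']
  congr 1
  refine (T.3 T'.2 fun x hx => ?_).symm
  obtain ⟨y, hy, hyx⟩ := hT'.ge ⟨hR (Subgroup.mem_map_of_mem _ hx), x.2⟩
  exact (Subtype.ext hyx : y = x) ▸ hy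

/-- The Sylow 2-subgroups of `N(D)` correspond to the Sylow 2-subgroups containing `D`. -/
theorem card_above (M : MaxInter D) :
    Nat.card {R : Sylow 2 G // D ≤ R} = Nat.card (Sylow 2 ↥(Subgroup.normalizer (D : Set G))) := by
  choose f hf using fun R : {R : Sylow 2 G // D ≤ R} => M.exists_sylow_inter R.1 R.2
  refine Nat.card_congr (Equiv.ofBijective f ⟨fun R S e => ?_, fun T => ?_⟩)
  · obtain ⟨x, hxR, hxK, hxD⟩ := M.grow R.1 R.2
    have h : x ∈ ((S.1 : Sylow 2 G) : Subgroup G) ⊓ Subgroup.normalizer (D : Set G) := by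
      rw [← hf S, ← e, hf R]; exact ⟨hxR, hxK⟩
    exact Subtype.ext (M.up R.1 S.1 R.2 S.2 x hxR h.1 hxD)
  · obtain ⟨R, hR, hT⟩ := M.exists_above T
    exact ⟨⟨R, hR⟩, Sylow.ext (Subgroup.map_injective (Subgroup.subtype_injective _) ((hf ⟨R, hR⟩).trans hT.symm))⟩

theorem le_of_invariant (M : MaxInter D) {X : Subgroup G} (hX : IsPGroup 2 X)
    (hXK : X ≤ Subgroup.normalizer (D : Set G))
    (hKX : Subgroup.normalizer (D : Set G) ≤ Subgroup.normalizer (X : Set G)) : X ≤ D := by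
  obtain ⟨P, Q, hne, hP, hQ⟩ := M.ex
  set K := Subgroup.normalizer (D : Set G)
  have key : ∀ R : Sylow 2 G, D ≤ R → X ≤ R := by
    intro R hR
    obtain ⟨T, hT⟩ := M.exists_sylow_inter R hR
    haveI : (X.subgroupOf K).Normal := Subgroup.normal_subgroupOf_iff_le_normalizer hXK |>.2 hKX
    have h1 := T.2.to_sup_of_normal_right (hX.of_equiv (Subgroup.subgroupOfEquivOfLe hXK).symm :
      IsPGroup 2 (X.subgroupOf K))
    have h2 : X.subgroupOf K ≤ T := by rw [← T.3 h1 le_sup_left]; exact le_sup_right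
    intro x hx
    exact (hT.le ⟨⟨x, hXK hx⟩, h2 hx, rfl⟩).1
  intro x hx
  by_contra hxD
  exact hne (M.up P Q hP hQ x (key P hP hx) (key Q hQ hx) hxD)

/-- Two Sylow 2-subgroups containing `D` are conjugate in `N(D)`. -/
theorem exists_conj (M : MaxInter D) {R S : Sylow 2 G} (hR : D ≤ R) (hS : D ≤ S) :
    ∃ k ∈ Subgroup.normalizer (D : Set G), conjS k (R : Subgroup G) = S := by
  obtain ⟨T, hT⟩ := M.exists_sylow_inter R hR
  obtain ⟨U, hU⟩ := M.exists_sylow_inter S hS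
  obtain ⟨k, hk⟩ := MulAction.exists_smul_eq ↥(Subgroup.normalizer (D : Set G)) T U
  refine ⟨k, k.2, ?_⟩
  obtain ⟨x, hxS, hxK, hxD⟩ := M.grow S hS
  have hDk : D ≤ ((k : G) • R : Sylow 2 G) := fun d hd => by
    rw [Sylow.coe_subgroup_smul, Subgroup.mem_pointwise_smul_iff_inv_smul_mem, ← map_inv, MulAut.smul_def,
      MulAut.conj_apply, inv_inv]
    exact hR (by simpa using (Subgroup.mem_normalizer_iff.1 (inv_mem k.2) d).1 hd)
  have hx : x ∈ (((k : G) • R : Sylow 2 G) : Subgroup G) := by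
    rw [Sylow.coe_subgroup_smul, Subgroup.mem_pointwise_smul_iff_inv_smul_mem, ← map_inv, MulAut.smul_def,
      MulAut.conj_apply, inv_inv]
    obtain ⟨y, hy, hyx⟩ := hU.ge ⟨hxS, hxK⟩
    rw [← hk, SetLike.mem_coe, Sylow.coe_subgroup_smul, Subgroup.mem_pointwise_smul_iff_inv_smul_mem, ← map_inv,
      MulAut.smul_def, MulAut.conj_apply, inv_inv] at hy
    have h1 := hT.le ⟨_, hy, rfl⟩
    subst hyx
    exact h1.1
  rw [← M.up ((k : G) • R) S hDk hS x hx hxS hxD, Sylow.coe_subgroup_smul]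
  rfl

end MaxInter

end Cfsg.Agent.GroupStructure3.FiveOrbits.Four
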