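import Cfsg.Agent.GroupStructure3.FiveOrbits.Four.Inter
import Cfsg.Agent.Lib.FiveOrders.Elementary
import Cfsg.Agent.Lib.Involutions.BaerSuzuki

/-!
# The structure of a maximal intersection
-/

set_option autoImplicit false

namespace Cfsg.Agent.GroupStructure3.FiveOrbits.Four

open FiveOrders (conjS mem_conjS card_conjS)

universe u

variable {G : Type u} [Group G] [Finite G] {q r : ℕ} {D : Subgroup G} [Fact (Nat.Prime 2)]

namespace MaxInter

theorem fpf (M : MaxInter D) (h : Orders G q r 4) {p : ℕ} (hp : p.Prime) (p2 : p ≠ 2) {y d : G}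
    (hy : orderOf y = p) (hd : d ∈ D) (hc : Commute y d) : d = 1 :=
  no_comm_two h (two_pow_four h M.two hd) hp p2 hy hc.symm

/-- An involution of `N(D)` outside `D` inverting an element of odd prime order. -/
theorem exists_dih (M : MaxInter D) (h : Orders G q r 4) :
    ∃ (p : ℕ) (y t : G), p.Prime ∧ p ≠ 2 ∧ orderOf y = p ∧ y ∈ Subgroup.normalizer (D : Set G) ∧
      t ∈ Subgroup.normalizer (D : Set G) ∧ t ∉ D ∧ t * t = 1 ∧ t * y * t = y⁻¹ := by
  obtain ⟨P, -, -, hDP, -⟩ := M.ex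
  obtain ⟨x, hxP, hxK, hxD⟩ := M.grow P hDP
  set K := Subgroup.normalizer (D : Set G) with hK
  haveI : (D.subgroupOf K).Normal := Subgroup.normal_in_normalizer
  let π := QuotientGroup.mk' (D.subgroupOf K)
  have hπ1 : ∀ g : K, π g = 1 ↔ (g : G) ∈ D := fun g => QuotientGroup.eq_one_iff g
  obtain ⟨u, hu⟩ : ∃ u : K ⧸ D.subgroupOf K, orderOf u = 2 := by
    refine exists_prime_orderOf_dvd_card' 2 (dvd_trans ?_ (orderOf_dvd_natCard (π ⟨x, hxK⟩)))
    have h4 : (⟨x, hxK⟩ : K) ^ 2 ^ 2 = 1 := Subtype.ext (two_pow_four h P.2 hxP)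
    obtain ⟨j, -, hj⟩ := (Nat.dvd_prime_pow Nat.prime_two).1
      (orderOf_dvd_of_pow_eq_one (show π ⟨x, hxK⟩ ^ 2 ^ 2 = 1 by rw [← map_pow, h4, map_one]))
    rw [hj]
    refine dvd_pow_self 2 fun e => hxD ((hπ1 _).1 (orderOf_eq_one_iff.1 (by rw [hj, e, pow_zero])))
  have hu1 : u ≠ 1 := fun e => by rw [e, orderOf_one] at hu; norm_num at hu
  obtain ⟨hh, hh1, hodd, hinv⟩ := Involutions.BaerSuzuki.exists_inverted_odd u hu fun N hN hN2 huN => by
    haveI := hN
    set X := (N.comap π).map K.subtype with hX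
    have hXp : IsPGroup 2 X := (hN2.comap_of_ker_isPGroup π (by
      rw [QuotientGroup.ker_mk']
      exact M.two.of_equiv (Subgroup.subgroupOfEquivOfLe Subgroup.le_normalizer).symm)).map _
    have hle := M.le_of_invariant hXp (Subgroup.map_subtype_le _) (fun k hk => by
      refine FiveOrders.mem_normalizer_of_conj ?_
      rintro _ ⟨y, hy, rfl⟩
      exact ⟨⟨k, hk⟩ * y * ⟨k, hk⟩⁻¹, (inferInstance : (N.comap π).Normal).conj_mem y hy _, rfl⟩)
    obtain ⟨v, rfl⟩ := QuotientGroup.mk'_surjective _ u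
    exact hu1 ((hπ1 v).2 (hle ⟨v, huN, rfl⟩))
  obtain ⟨p, hp, hpd⟩ := Nat.exists_prime_and_dvd (n := orderOf hh) (by rwa [ne_eq, orderOf_eq_one_iff])
  have p2 : p ≠ 2 := by
    rintro rfl
    exact (Nat.not_even_iff_odd.2 hodd) (even_iff_two_dvd.2 hpd)
  set g := hh ^ (orderOf hh / p) with hg
  have hgo : orderOf g = p := orderOf_pow_orderOf_div (orderOf_pos hh).ne' hpd
  have hginv : u * g * u⁻¹ = g⁻¹ := by rw [hg, ← conj_pow, hinv, inv_pow]
  obtain ⟨y, hy⟩ := QuotientGroup.mk'_surjective _ g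
  obtain ⟨n, hn⟩ := QuotientGroup.mk'_surjective _ u
  have hyo : orderOf (y : G) = p := by
    have hd : p ∣ orderOf (y : G) := by
      rw [Subgroup.orderOf_coe, ← hgo, ← hy]; exact orderOf_map_dvd _ y
    rcases h.cases (y : G) with e | e | e | e | e <;> rw [e] at hd ⊢
    · exact absurd (Nat.dvd_one.1 hd) hp.ne_one
    · exact absurd ((Nat.prime_dvd_prime_iff_eq hp Nat.prime_two).1 hd) p2
    · exact ((Nat.prime_dvd_prime_iff_eq hp h.hq).1 hd).symm
    · exact ((Nat.prime_dvd_prime_iff_eq hp h.hr).1 hd).symm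
    · exact absurd ((Nat.prime_dvd_prime_iff_eq hp Nat.prime_two).1 (hp.dvd_of_dvd_pow (show p ∣ 2 ^ 2 from hd))) p2
  have hconj : ∀ d : D, (y : G) * ((d : G) * (y : G)⁻¹ * (d : G)⁻¹) ∈ D := fun d => by
    have := D.mul_mem ((Subgroup.mem_normalizer_iff.1 y.2 _).1 d.2) (D.inv_mem d.2)
    simpa [mul_assoc] using this
  let f : D → D := fun d => ⟨_, hconj d⟩
  have hf : Function.Injective f := by
    intro a b e
    have e' : (a : G) * (y : G)⁻¹ * (a : G)⁻¹ = b * (y : G)⁻¹ * (b : G)⁻¹ := mul_left_cancel (congrArg Subtype.val e)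
    apply Subtype.ext
    rw [eq_comm, ← inv_mul_eq_one]
    refine M.fpf h hp p2 (y := (y : G)⁻¹) (by rw [orderOf_inv, hyo]) (mul_mem (inv_mem b.2) a.2) ?_
    show (y : G)⁻¹ * ((b : G)⁻¹ * a) = (b : G)⁻¹ * a * (y : G)⁻¹
    calc (y : G)⁻¹ * ((b : G)⁻¹ * a) = (b : G)⁻¹ * (b * (y : G)⁻¹ * (b : G)⁻¹) * a := by group
      _ = (b : G)⁻¹ * a * (y : G)⁻¹ := by rw [← e']; group
  have htarget : (y : G) * (n * y * (n : G)⁻¹) ∈ D := (hπ1 (y * (n * y * n⁻¹))).1 (by
    rw [map_mul, map_mul, map_mul, map_inv, hn, hy, hginv, mul_inv_cancel])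
  obtain ⟨d, hd⟩ := (Finite.injective_iff_surjective.1 hf) ⟨_, htarget⟩
  have hd' : (d : G) * (y : G)⁻¹ * (d : G)⁻¹ = n * y * (n : G)⁻¹ := mul_left_cancel (congrArg Subtype.val hd)
  set t := (d : G)⁻¹ * n with ht
  have htK : t ∈ K := mul_mem (inv_mem (Subgroup.le_normalizer d.2)) n.2
  have hty : t * y * t⁻¹ = (y : G)⁻¹ := by
    rw [ht]
    calc (d : G)⁻¹ * n * y * ((d : G)⁻¹ * n)⁻¹ = (d : G)⁻¹ * (n * y * (n : G)⁻¹) * d := by group
      _ = (y : G)⁻¹ := by rw [← hd']; group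
  have hπt : π ⟨t, htK⟩ = u := by
    have : (⟨t, htK⟩ : K) = ⟨(d : G), Subgroup.le_normalizer d.2⟩⁻¹ * n := rfl
    rw [this, map_mul, map_inv, (hπ1 _).2 d.2, inv_one, one_mul, hn]
  have htt : t * t = 1 := by
    refine M.fpf h hp p2 hyo ((hπ1 (⟨t, htK⟩ * ⟨t, htK⟩)).1 (by
      rw [map_mul, hπt, ← pow_two, ← hu]; exact pow_orderOf_eq_one u)) ?_
    show (y : G) * (t * t) = t * t * y
    symm
    calc t * t * y = t * (t * y * t⁻¹) * t⁻¹ * (t * t) := by group
      _ = (t * y * t⁻¹)⁻¹ * (t * t) := by rw [hty]; nth_rewrite 2 [← hty]; group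
      _ = y * (t * t) := by rw [hty, inv_inv]
  refine ⟨p, y, t, hp, p2, hyo, y.2, htK, fun e => hu1 (hπt ▸ (hπ1 ⟨t, htK⟩).2 e), htt, ?_⟩
  rwa [inv_eq_of_mul_eq_one_right htt] at hty

/-- The intersection is elementary abelian. -/
theorem sq (M : MaxInter D) (h : Orders G q r 4) {d : G} (hd : d ∈ D) : d * d = 1 := by
  obtain ⟨p, y, t, hp, p2, hyo, hy, ht, -, htt, hinv⟩ := M.exists_dih h
  let φ := Subgroup.normalizerMonoidHom D
  have hap : ∀ (g : Subgroup.normalizer (D : Set G)) (x : D), ((φ g x : D) : G) = g * x * (g : G)⁻¹ :=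
    fun g x => rfl
  have hσ : ∀ i : ℕ, ((φ ⟨y, hy⟩) ^ i) = φ ⟨y ^ i, pow_mem hy i⟩ := fun i => by rw [← map_pow]; rfl
  have hconjy : ∀ i : ℕ, t * y ^ i * t⁻¹ = (y ^ i)⁻¹ := fun i => by
    rw [← conj_pow, inv_eq_of_mul_eq_one_right htt, hinv, inv_pow]
  refine congrArg Subtype.val (FiveOrders.Elementary.sq_eq_one _ D rfl M.two (φ ⟨y, hy⟩) (φ ⟨t, ht⟩) p
    (hp.odd_of_ne_two p2) ?_ ?_ ?_ ⟨d, hd⟩)
  · rw [hσ]
    refine MulEquiv.ext fun x => Subtype.ext ?_
    rw [hap]
    simp [← hyo, pow_orderOf_eq_one]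
  · intro x hx
    have e := congrArg Subtype.val hx
    rw [hap] at e
    exact Subtype.ext (M.fpf h hp p2 hyo x.2 (mul_inv_eq_iff_eq_mul.1 e))
  · intro i x
    apply Subtype.ext
    rw [hσ]
    simp only [Subgroup.coe_mul, hap, Subgroup.coe_one]
    set v := y ^ i * t with hv
    have hv2 : v * v = 1 := by
      rw [hv, show y ^ i * t * (y ^ i * t) = y ^ i * (t * y ^ i * t⁻¹) * (t * t) by group, hconjy, htt,
        mul_inv_cancel, mul_one]
    have h4 := mul_pow_four h M.two (mul_mem (pow_mem hy i) ht) (show v ^ 4 = 1 by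
      rw [show v ^ 4 = (v * v) * (v * v) by simp only [pow_succ, pow_zero, one_mul, mul_assoc], hv2, one_mul]) x.2
    rw [← hv] at h4
    have hexp : y ^ i * (t * (x : G) * t⁻¹) * (y ^ i)⁻¹ = v * x * v := by
      conv_rhs => rw [show v * (x : G) * v = v * x * v⁻¹ by rw [inv_eq_of_mul_eq_one_right hv2], hv]
      group
    rw [hexp, ← h4]
    simp only [pow_succ, pow_zero, one_mul, mul_assoc]

theorem comm (M : MaxInter D) (h : Orders G q r 4) {a b : G} (ha : a ∈ D) (hb : b ∈ D) : Commute a b :=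
  FiveOrders.commute_of_sq (fun _ hx => M.sq h hx) ha hb

theorem centralizer_le (M : MaxInter D) (h : Orders G q r 4) : Subgroup.centralizer (D : Set G) ≤ D := by
  obtain ⟨d, hd, hd1⟩ := (Subgroup.bot_or_exists_ne_one D).resolve_left M.ne
  refine M.le_of_invariant ((centralizer_two h (orderOf_eq_prime (by rw [pow_two]; exact M.sq h hd) hd1)).to_le
    (Subgroup.centralizer_le (Set.singleton_subset_iff.2 hd))) (Subgroup.centralizer_le_normalizer _) ?_
  intro k hk
  refine FiveOrders.mem_normalizer_of_conj fun c hc => Subgroup.mem_centralizer_iff.2 fun a ha => ?_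
  have ha' : k⁻¹ * a * k ∈ D := by simpa using (Subgroup.mem_normalizer_iff.1 (inv_mem hk) a).1 ha
  have e := Subgroup.mem_centralizer_iff.1 hc _ ha'
  calc a * (k * c * k⁻¹) = k * ((k⁻¹ * a * k) * c) * k⁻¹ := by group
    _ = k * c * k⁻¹ * a := by rw [e]; group

theorem zc_le (M : MaxInter D) (h : Orders G q r 4) {R : Sylow 2 G} (hR : D ≤ R) : zc (R : Subgroup G) ≤ D :=
  fun _ hc => M.centralizer_le h (Subgroup.mem_centralizer_iff.2 fun a ha => ((mem_zc.1 hc).2 a (hR ha)).eq)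

theorem centralizer_eq (M : MaxInter D) (h : Orders G q r 4) {R : Sylow 2 G} (hR : D ≤ R) {d x : G}
    (hd : d ∈ D) (hd1 : d ≠ 1) (hx : x ∈ (R : Subgroup G)) (hxD : x ∉ D) (hc : Commute x d) :
    Subgroup.centralizer ({d} : Set G) = R := by
  obtain ⟨T, hT⟩ := cent_sylow h (orderOf_eq_prime (by rw [pow_two]; exact M.sq h hd) hd1)
  rw [← hT, M.up T R (fun a ha => hT.ge (Subgroup.mem_centralizer_singleton_iff.2 (M.comm h ha hd).eq)) hR x
    (hT.ge (Subgroup.mem_centralizer_singleton_iff.2 hc.eq)) hx hxD]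

/-- The fixed points on `D` of an element outside it. -/
theorem commute_iff (M : MaxInter D) (h : Orders G q r 4) {R : Sylow 2 G} (hR : D ≤ R) {d x : G}
    (hd : d ∈ D) (hx : x ∈ (R : Subgroup G)) (hxD : x ∉ D) : Commute x d ↔ d ∈ zc (R : Subgroup G) := by
  refine ⟨fun hc => mem_zc.2 ⟨hR hd, fun a ha => ?_⟩, fun hz => (mem_zc.1 hz).2 x hx⟩
  rcases eq_or_ne d 1 with rfl | hd1
  · exact Commute.one_right a
  · exact Subgroup.mem_centralizer_singleton_iff.1 ((M.centralizer_eq h hR hd hd1 hx hxD hc).ge ha)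

theorem exists_involution (M : MaxInter D) (h : Orders G q r 4) {R : Sylow 2 G} (hR : D ≤ R) :
    ∃ t ∈ (R : Subgroup G), t ∈ Subgroup.normalizer (D : Set G) ∧ t ∉ D ∧ t * t = 1 := by
  obtain ⟨p, y, t, -, -, -, -, ht, htD, htt, -⟩ := M.exists_dih h
  have hz : IsPGroup 2 (Subgroup.zpowers t) :=
    IsPGroup.of_card (n := 1) (by
      rw [Nat.card_zpowers, pow_one]
      exact orderOf_eq_prime (by rw [pow_two, htt]) fun e => htD (e ▸ one_mem D))
  obtain ⟨S, hS⟩ := (hz.to_sup_of_normal_right' M.two (Subgroup.zpowers_le.2 ht)).exists_le_sylow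
  obtain ⟨k, hk, hkS⟩ := M.exists_conj (le_sup_right.trans hS) hR
  refine ⟨k * t * k⁻¹, hkS.le (mem_conjS.2 ?_), mul_mem (mul_mem hk ht) (inv_mem hk),
    fun hm => htD ((Subgroup.mem_normalizer_iff.1 hk t).2 hm), FiveOrders.conj_sq htt⟩
  simpa [mul_assoc] using hS (Subgroup.mem_sup_left (Subgroup.mem_zpowers t))

/-- `|D|` is the square of the order of a centre. -/
theorem card_eq (M : MaxInter D) (h : Orders G q r 4) (P : Sylow 2 G) :
    Nat.card D = Nat.card (zc (P : Subgroup G)) * Nat.card (zc (P : Subgroup G)) := by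
  obtain ⟨p, y, t, hp, p2, hyo, hy, ht, htD, htt, hinv⟩ := M.exists_dih h
  have hz : IsPGroup 2 (Subgroup.zpowers t) :=
    IsPGroup.of_card (n := 1) (by
      rw [Nat.card_zpowers, pow_one]
      exact orderOf_eq_prime (by rw [pow_two, htt]) fun e => htD (e ▸ one_mem D))
  obtain ⟨R, hS⟩ := (hz.to_sup_of_normal_right' M.two (Subgroup.zpowers_le.2 ht)).exists_le_sylow
  have hR : D ≤ R := le_sup_right.trans hS
  have htR : t ∈ (R : Subgroup G) := hS (Subgroup.mem_sup_left (Subgroup.mem_zpowers t))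
  rw [card_zc P R]
  set C := zc (R : Subgroup G)
  have hCD : C ≤ D := M.zc_le h hR
  have hti : t⁻¹ = t := inv_eq_of_mul_eq_one_right htt
  have hm : ∀ d ∈ D, t * d * t ∈ D := fun d hd => by
    have := (Subgroup.mem_normalizer_iff.1 ht d).1 hd
    rwa [hti] at this
  letI : CommGroup D := { (inferInstance : Group D) with mul_comm := fun a b => Subtype.ext (M.comm h a.2 b.2) }
  let φ : D →* D := MonoidHom.id D * { toFun := fun d => ⟨t * (d : G) * t, hm d d.2⟩
                                       map_one' := Subtype.ext (by simp [htt])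
                                       map_mul' := fun a b => Subtype.ext (by
      show t * ((a : G) * b) * t = t * a * t * (t * b * t)
      rw [show t * (a : G) * t * (t * b * t) = t * a * (t * t) * b * t by group, htt]
      group) }
  have hφ : ∀ d : D, ((φ d : D) : G) = d * (t * d * t) := fun d => rfl
  have hker : φ.ker = C.subgroupOf D := by
    ext d
    rw [MonoidHom.mem_ker, Subgroup.mem_subgroupOf, ← M.commute_iff h hR d.2 htR htD, Subtype.ext_iff, hφ,
      Subgroup.coe_one]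
    constructor
    · intro e
      rw [mul_eq_one_iff_inv_eq, inv_eq_of_mul_eq_one_right (M.sq h d.2)] at e
      show t * d = d * t
      conv_rhs => rw [e, mul_assoc, htt, mul_one]
    · intro e
      rw [show t * (d : G) * t = d * (t * t) by rw [e.eq, mul_assoc], htt, mul_one, M.sq h d.2]
  have hran : φ.range ≤ C.subgroupOf D := by
    rintro _ ⟨d, rfl⟩
    rw [Subgroup.mem_subgroupOf, ← M.commute_iff h hR (φ d).2 htR htD, hφ]
    show t * (d * (t * d * t)) = d * (t * d * t) * t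
    calc t * ((d : G) * (t * d * t)) = (t * d * t) * d * t := by group
      _ = d * (t * d * t) * t := by rw [(M.comm h (hm d d.2) d.2).eq]
  have hc : Nat.card (C.subgroupOf D) = Nat.card C := Nat.card_congr (Subgroup.subgroupOfEquivOfLe hCD).toEquiv
  refine le_antisymm ?_ ?_
  · calc Nat.card D = Nat.card φ.ker * φ.ker.index := (Subgroup.card_mul_index _).symm
      _ ≤ _ := by
        rw [Subgroup.index_ker, hker, hc]
        exact Nat.mul_le_mul_left _ (hc ▸ Subgroup.card_le_of_le hran)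
  · rw [← Nat.card_prod]
    refine Nat.card_le_card_of_injective (fun x : C × C => (⟨(x.1 : G) * (y * x.2 * y⁻¹),
      mul_mem (hCD x.1.2) ((Subgroup.mem_normalizer_iff.1 hy _).1 (hCD x.2.2))⟩ : D)) ?_
    rintro ⟨a, b⟩ ⟨a', b'⟩ e
    have e' : (a : G) * (y * b * y⁻¹) = a' * (y * b' * y⁻¹) := congrArg Subtype.val e
    have e2 : (a' : G)⁻¹ * a = y * ((b' : G) * (b : G)⁻¹) * y⁻¹ := by
      calc (a' : G)⁻¹ * a = (a' : G)⁻¹ * (a * (y * b * y⁻¹)) * (y * b * y⁻¹)⁻¹ := by group
        _ = _ := by rw [e']; group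
    set v := (b' : G) * (b : G)⁻¹ with hv
    have hvC : v ∈ C := C.mul_mem b'.2 (C.inv_mem b.2)
    have hv' : y * v * y⁻¹ ∈ C := e2 ▸ C.mul_mem (C.inv_mem a'.2) a.2
    have c1 : t * v * t = v := by rw [((mem_zc.1 hvC).2 t htR).eq, mul_assoc, htt, mul_one]
    have c2 : t * (y * v * y⁻¹) * t = y * v * y⁻¹ := by
      rw [((mem_zc.1 hv').2 t htR).eq, mul_assoc, htt, mul_one]
    have hinv' : t * y⁻¹ * t = y := by
      have := congrArg (fun g => g⁻¹) hinv
      simpa [hti, mul_assoc] using this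
    have hy2 : Commute (y * y) v := by
      have e3 : y⁻¹ * v * y = y * v * y⁻¹ := by
        calc y⁻¹ * v * y = (t * y * t) * (t * v * t) * (t * y⁻¹ * t) := by rw [hinv, c1, hinv']
          _ = t * (y * (t * t) * v * (t * t) * y⁻¹) * t := by group
          _ = _ := by rw [htt, mul_one, mul_one, c2]
      show y * y * v = v * (y * y)
      calc y * y * v = y * (y * v * y⁻¹) * y := by group
        _ = y * (y⁻¹ * v * y) * y := by rw [e3]
        _ = _ := by group
    have hv1 : v = 1 := by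
      refine M.fpf h hp p2 (y := y * y) ?_ (hCD hvC) hy2
      rw [← pow_two, orderOf_pow' _ two_ne_zero, hyo, ((Nat.coprime_primes hp Nat.prime_two).2 p2).gcd_eq_one,
        Nat.div_one]
    rw [hv1, mul_one, mul_inv_cancel, inv_mul_eq_one] at e2
    exact Prod.ext (Subtype.ext e2.symm) (Subtype.ext (mul_inv_eq_one.1 (hv ▸ hv1)).symm)

theorem two_le_zc (M : MaxInter D) (h : Orders G q r 4) (P : Sylow 2 G) : 2 ≤ Nat.card (zc (P : Subgroup G)) := by
  by_contra hlt
  have h1 : Nat.card (zc (P : Subgroup G)) = 1 := by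
    have := Nat.card_pos (α := zc (P : Subgroup G)); omega
  exact M.ne (Subgroup.card_eq_one.1 (by rw [M.card_eq h P, h1]))

/-- Exactly `z + 1` Sylow 2-subgroups contain `D`. -/
theorem card_above_eq (M : MaxInter D) (h : Orders G q r 4) (P : Sylow 2 G) :
    Nat.card {R : Sylow 2 G // D ≤ R} = Nat.card (zc (P : Subgroup G)) + 1 := by
  classical
  haveI := Fintype.ofFinite {R : Sylow 2 G // D ≤ R}
  set z := Nat.card (zc (P : Subgroup G)) with hz
  have hne : ∀ (L : Subgroup G), Nat.card {x : G // x ∈ L ∧ x ≠ 1} = Nat.card L - 1 := by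
    intro L
    have := Set.ncard_sdiff_singleton_add_one (show (1 : G) ∈ (L : Set G) from one_mem L) (Set.toFinite _)
    rw [show (L : Set G).ncard = Nat.card L from (Nat.card_coe_set_eq _).symm] at this
    have e : Nat.card {x : G // x ∈ L ∧ x ≠ 1} = ((L : Set G) \ {1}).ncard := Nat.card_coe_set_eq _
    omega
  let f : (Σ R : {R : Sylow 2 G // D ≤ R}, {x : G // x ∈ zc (R.1 : Subgroup G) ∧ x ≠ 1}) →
      {x : G // x ∈ D ∧ x ≠ 1} := fun a => ⟨a.2.1, M.zc_le h a.1.2 a.2.2.1, a.2.2.2⟩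
  have hbij : Function.Bijective f := by
    constructor
    · rintro ⟨⟨R, hR⟩, x, hx, hx1⟩ ⟨⟨S, hS⟩, x', hx', hx1'⟩ e
      have e' : x = x' := congrArg Subtype.val e
      subst e'
      have h1 := sq_of_mem_zc h hx hx1 (M.sq h (M.zc_le h hR hx))
      have h2 := sq_of_mem_zc h hx' hx1 (M.sq h (M.zc_le h hR hx))
      obtain rfl : R = S := Sylow.ext (h1.symm.trans h2)
      rfl
    · rintro ⟨x, hx, hx1⟩
      obtain ⟨T, hT⟩ := cent_sylow h (orderOf_eq_prime (by rw [pow_two]; exact M.sq h hx) hx1)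
      refine ⟨⟨⟨T, fun a ha => hT.ge (Subgroup.mem_centralizer_singleton_iff.2 (M.comm h ha hx).eq)⟩,
        ⟨x, mem_zc.2 ⟨hT.ge (Subgroup.mem_centralizer_singleton_iff.2 rfl), fun a ha =>
          (Subgroup.mem_centralizer_singleton_iff.1 (hT.le ha))⟩, hx1⟩⟩, rfl⟩
  have hcard := Nat.card_congr (Equiv.ofBijective f hbij)
  rw [Nat.card_sigma, hne D, M.card_eq h P,
    Finset.sum_congr rfl (fun R _ => (hne _).trans (by rw [card_zc R.1 P, ← hz] :
      Nat.card (zc (R.1 : Subgroup G)) - 1 = z - 1)),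
    Finset.sum_const, Finset.card_univ, smul_eq_mul, ← Nat.card_eq_fintype_card] at hcard
  have h2 := M.two_le_zc h P
  rw [← hz] at h2 hcard
  obtain ⟨w, hw⟩ : ∃ w, z = w + 2 := ⟨z - 2, by omega⟩
  rw [hw] at hcard ⊢
  rw [show (w + 2) * (w + 2) - 1 = (w + 3) * (w + 1) by
    rw [Nat.sub_eq_iff_eq_add (by nlinarith)]; ring, show w + 2 - 1 = w + 1 from rfl] at hcard
  exact Nat.eq_of_mul_eq_mul_right (Nat.succ_pos w) hcard

/-- The quotient of the Sylow 2-subgroup of `N(D)` by `D` is elementary abelian. -/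
theorem sq_mem (M : MaxInter D) (h : Orders G q r 4) {R : Sylow 2 G} (hR : D ≤ R) {x : G}
    (hx : x ∈ (R : Subgroup G)) (hxK : x ∈ Subgroup.normalizer (D : Set G)) : x * x ∈ D := by
  by_contra hsD
  set s := x * x with hs
  have hss : s * s = 1 := by
    have := two_pow_four h R.2 hx
    rw [hs, ← this]; simp [pow_succ, mul_assoc]
  have hsR : s ∈ (R : Subgroup G) := mul_mem hx hx
  have hsi : s⁻¹ = s := inv_eq_of_mul_eq_one_right hss
  have hsK : s ∈ Subgroup.normalizer (D : Set G) := mul_mem hxK hxK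
  have hm : ∀ d ∈ D, s * d * s ∈ D := fun d hd => by
    have := (Subgroup.mem_normalizer_iff.1 hsK d).1 hd
    rwa [hsi] at this
  have hall : ∀ d ∈ D, Commute s d := by
    intro d hd
    have hxd : x * d * x⁻¹ ∈ D := (Subgroup.mem_normalizer_iff.1 hxK d).1 hd
    have he : d * (s * d * s) ∈ zc (R : Subgroup G) := by
      rw [← M.commute_iff h hR (mul_mem hd (hm d hd)) hsR hsD]
      show s * (d * (s * d * s)) = d * (s * d * s) * s
      calc s * (d * (s * d * s)) = (s * d * s) * d * s := by group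
        _ = d * (s * d * s) * s := by rw [(M.comm h (hm d hd) hd).eq]
    set c := x * d * x⁻¹ * d with hc
    have hcD : c ∈ D := mul_mem hxd hd
    have hsx : Commute s x := (Commute.refl x).mul_left (Commute.refl x)
    have h1 : x * d * x⁻¹ * (s * (x * d * x⁻¹) * s) = d * (s * d * s) := by
      calc x * d * x⁻¹ * (s * (x * d * x⁻¹) * s) = x * (d * (s * d * s)) * x⁻¹ := by
            have e1 : x⁻¹ * s * x = s := by rw [mul_assoc, hsx.eq, inv_mul_cancel_left]
            have e2 : x⁻¹ * s = s * x⁻¹ := hsx.inv_right.eq.symm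
            calc x * d * x⁻¹ * (s * (x * d * x⁻¹) * s) = x * d * (x⁻¹ * s * x) * d * (x⁻¹ * s) := by group
              _ = x * d * s * d * (s * x⁻¹) := by rw [e1, e2]
              _ = x * (d * (s * d * s)) * x⁻¹ := by group
        _ = d * (s * d * s) := by rw [((mem_zc.1 he).2 x hx).eq, mul_inv_cancel_right]
    have hcs : Commute s c := by
      have hcc : c * (s * c * s) = 1 := by
        letI : CommGroup D := { (inferInstance : Group D) with mul_comm := fun a b => Subtype.ext (M.comm h a.2 b.2) }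
        have key : ∀ a b a' b' : D, a * a' = b * b' → b * b * (b' * b') = 1 → a * b * (a' * b') = 1 := by
          intro a b a' b' e1 e2
          rw [show a * b * (a' * b') = a * a' * (b * b') by ac_rfl, e1,
            show b * b' * (b * b') = b * b * (b' * b') by ac_rfl, e2]
        have := congrArg Subtype.val (key ⟨_, hxd⟩ ⟨d, hd⟩ ⟨_, hm _ hxd⟩ ⟨_, hm d hd⟩ (Subtype.ext h1)
          (Subtype.ext (by
            show d * d * (s * d * s * (s * d * s)) = 1
            rw [M.sq h hd, one_mul, M.sq h (hm d hd)])))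
        simp only [Subgroup.coe_mul, Subgroup.coe_one] at this
        rw [hc, ← this]
        congr 1
        calc s * (x * d * x⁻¹ * d) * s = s * (x * d * x⁻¹) * (s * s) * d * s := by rw [hss]; group
          _ = s * (x * d * x⁻¹) * s * (s * d * s) := by group
      rw [mul_eq_one_iff_inv_eq, inv_eq_of_mul_eq_one_right (M.sq h hcD)] at hcc
      show s * c = c * s
      conv_rhs => rw [hcc, mul_assoc, hss, mul_one]
    have hcx : x * c = c * x := ((mem_zc.1 ((M.commute_iff h hR hcD hsR hsD).1 hcs)).2 x hx).eq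
    show s * d = d * s
    have e : x * d * x⁻¹ = c * d := by rw [hc, mul_assoc (x * d * x⁻¹), M.sq h hd, mul_one]
    calc s * d = x * (x * d * x⁻¹) * x := by rw [hs]; group
      _ = x * c * d * x := by rw [e]; group
      _ = c * (x * d * x⁻¹) * x * x := by rw [hcx]; group
      _ = (c * c) * d * (x * x) := by rw [e]; group
      _ = d * s := by rw [M.sq h hcD, one_mul, hs]
  have hle : D ≤ zc (R : Subgroup G) := fun d hd => (M.commute_iff h hR hd hsR hsD).1 (hall d hd)
  have h1 := Subgroup.card_le_of_le hle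
  rw [M.card_eq h R] at h1
  have := M.two_le_zc h R
  nlinarith

/-- An element normalizing two Sylow 2-subgroups above `D` lies in `D`. -/
theorem mem_of_normalizes (M : MaxInter D) {R S : Sylow 2 G} (hR : D ≤ R) (hS : D ≤ S) (hne : R ≠ S) {x : G}
    (hx : x ∈ (R : Subgroup G)) (hxS : x ∈ Subgroup.normalizer ((S : Subgroup G) : Set G)) : x ∈ D := by
  by_contra hxD
  refine hne (M.up R S hR hS x hx ?_ hxD)
  have hz : IsPGroup 2 (Subgroup.zpowers x) := R.2.to_le (Subgroup.zpowers_le.2 hx)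
  exact (S.3 (hz.to_sup_of_normal_right' S.2 (Subgroup.zpowers_le.2 hxS)) le_sup_right).le
    (Subgroup.mem_sup_left (Subgroup.mem_zpowers x))

/-- `[R ∩ N(D) : D] ≤ z`. -/
theorem card_inter_le (M : MaxInter D) (h : Orders G q r 4) {R : Sylow 2 G} (hR : D ≤ R) :
    Nat.card ↥((R : Subgroup G) ⊓ Subgroup.normalizer (D : Set G)) ≤
      Nat.card (zc (R : Subgroup G)) * Nat.card D := by
  classical
  obtain ⟨P, Q, hPQ, hP, hQ⟩ := M.ex
  obtain ⟨S, hS, hSR⟩ : ∃ S : Sylow 2 G, D ≤ S ∧ S ≠ R := by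
    by_cases e : P = R
    exacts [⟨Q, hQ, fun e' => hPQ (e.trans e'.symm)⟩, ⟨P, hP, e⟩]
  set U := (R : Subgroup G) ⊓ Subgroup.normalizer (D : Set G)
  have hmem : ∀ x : U, D ≤ ((x : G) • S : Sylow 2 G) ∧ (x : G) • S ≠ R := by
    intro x
    refine ⟨fun d hd => ?_, fun e => hSR ?_⟩
    · rw [Sylow.coe_subgroup_smul, Subgroup.mem_pointwise_smul_iff_inv_smul_mem, ← map_inv, MulAut.smul_def,
        MulAut.conj_apply, inv_inv]
      exact hS (by simpa using (Subgroup.mem_normalizer_iff.1 (inv_mem x.2.2) d).1 hd)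
    · have hx : (x : G) • R = R := Sylow.smul_eq_iff_mem_normalizer.2 (Subgroup.le_normalizer x.2.1)
      exact smul_left_cancel _ (e.trans hx.symm)
  let f : U → {T : Sylow 2 G // D ≤ T ∧ T ≠ R} := fun x => ⟨(x : G) • S, hmem x⟩
  let rep := Function.invFun f
  have hrep : ∀ x, (((rep (f x) : U)⁻¹ * x : U) : G) ∈ D := by
    intro x
    refine M.mem_of_normalizes hR hS hSR.symm ((rep (f x))⁻¹ * x).2.1 (Sylow.smul_eq_iff_mem_normalizer.1 ?_)
    show ((rep (f x) : G)⁻¹ * x) • S = S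
    have e : (rep (f x) : G) • S = (x : G) • S := congrArg Subtype.val (Function.invFun_eq (f := f) ⟨x, rfl⟩)
    rw [mul_smul, ← e, inv_smul_smul]
  have h1 := Nat.card_le_card_of_injective (fun x : U => (f x, (⟨_, hrep x⟩ : D))) fun a b e => by
    obtain ⟨e1, e2⟩ := Prod.ext_iff.1 e
    have e3 : (((rep (f a) : U)⁻¹ * a : U) : G) = (((rep (f b) : U)⁻¹ * b : U) : G) := congrArg (fun d : D => (d : G)) e2
    rw [show f b = f a from e1.symm] at e3
    exact mul_left_cancel (Subtype.ext e3)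
  rw [Nat.card_prod] at h1
  refine h1.trans (Nat.mul_le_mul_right _ ?_)
  have h2 := Set.ncard_sdiff_singleton_add_one (show R ∈ {T : Sylow 2 G | D ≤ T} from hR) (Set.toFinite _)
  have h3 : ({T : Sylow 2 G | D ≤ T}).ncard = Nat.card (zc (R : Subgroup G)) + 1 :=
    (Nat.card_coe_set_eq _).symm.trans (M.card_above_eq h R)
  have h4 : Nat.card {T : Sylow 2 G // D ≤ T ∧ T ≠ R} = ({T : Sylow 2 G | D ≤ T} \ {R}).ncard :=
    Nat.card_coe_set_eq _
  omega

/-- `D` is proper in `R ∩ N(D)`. -/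
theorem two_mul_le (M : MaxInter D) {R : Sylow 2 G} (hR : D ≤ R) :
    2 * Nat.card D ≤ Nat.card ↥((R : Subgroup G) ⊓ Subgroup.normalizer (D : Set G)) := by
  obtain ⟨x, hxR, hxK, hxD⟩ := M.grow R hR
  have hle : D ≤ (R : Subgroup G) ⊓ Subgroup.normalizer (D : Set G) := le_inf hR Subgroup.le_normalizer
  obtain ⟨j, hj⟩ := Subgroup.card_dvd_of_le hle
  rcases j with _ | _ | j
  · rw [mul_zero] at hj; exact absurd hj Nat.card_pos.ne'
  · exfalso
    rw [zero_add, mul_one] at hj
    exact hxD ((Subgroup.eq_of_le_of_card_ge hle hj.le).ge ⟨hxR, hxK⟩)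
  · rw [hj, mul_comm 2]; exact Nat.mul_le_mul_left _ (by omega)

end MaxInter

end Cfsg.Agent.GroupStructure3.FiveOrbits.Four
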