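import Cfsg.Agent.GroupStructure3.FiveOrbits.Four.Index
import Cfsg.Agent.S3280

/-!
# Two Sylow 2-subgroups with a non-trivial intersection
-/

set_option autoImplicit false

namespace Cfsg.Agent.GroupStructure3.FiveOrbits.Four

open FiveOrders (conjS mem_conjS card_conjS)

universe u

variable {G : Type u} [Group G] [Finite G] [IsSimpleGroup G] {q r : ℕ} {D : Subgroup G}
  [Fact (Nat.Prime 2)]

omit [IsSimpleGroup G] [Fact (Nat.Prime 2)] in
theorem mem_or_mul_mem {A B : Subgroup G} (hAB : A ≤ B) (hc : Nat.card B = 2 * Nat.card A) {x y : G}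
    (hx : x ∈ B) (hy : y ∈ B) (hxA : x ∉ A) (hyA : y ∉ A) : x * y ∈ A := by
  have hi : (A.subgroupOf B).index = 2 := by
    have h1 := (A.subgroupOf B).card_mul_index
    rw [Nat.card_congr (Subgroup.subgroupOfEquivOfLe hAB).toEquiv, hc, mul_comm 2] at h1
    exact Nat.eq_of_mul_eq_mul_left Nat.card_pos h1
  exact (Subgroup.mul_mem_iff_of_index_two hi (a := ⟨x, hx⟩) (b := ⟨y, hy⟩)).2
    ⟨fun h => absurd h hxA, fun h => absurd h hyA⟩

omit [IsSimpleGroup G] in
/-- A 2-subgroup properly containing `U` has an element normalizing `U` outside it with square in it. -/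
theorem exists_normalizing (h : Orders G q r 4) (R : Sylow 2 G) {U : Subgroup G} (hU : U ≤ R) (hne : U ≠ R) :
    ∃ x ∈ (R : Subgroup G), x ∈ Subgroup.normalizer (U : Set G) ∧ x ∉ U ∧ x * x ∈ U := by
  haveI := R.2.isNilpotent
  have hlt : U.subgroupOf (R : Subgroup G) < ⊤ := by
    rw [lt_top_iff_ne_top, ne_eq, Subgroup.subgroupOf_eq_top]
    exact fun h => hne (le_antisymm hU h)
  obtain ⟨y, hyn, hyU⟩ := SetLike.exists_of_lt (Group.normalizerCondition_of_isNilpotent _ hlt)
  have hyU' : (y : G) ∉ U := fun hy => hyU (Subgroup.mem_subgroupOf.2 hy)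
  have hn : (y : G) ∈ Subgroup.normalizer (U : Set G) := FiveOrders.mem_normalizer_of_conj fun v hv =>
    Subgroup.mem_subgroupOf.1 ((Subgroup.mem_normalizer_iff.1 hyn ⟨v, hU hv⟩).1 (Subgroup.mem_subgroupOf.2 hv))
  by_cases hyy : (y : G) * y ∈ U
  · exact ⟨y, y.2, hn, hyU', hyy⟩
  · refine ⟨y * y, mul_mem y.2 y.2, mul_mem hn hn, hyy, ?_⟩
    rw [show (y : G) * y * (y * y) = (y : G) ^ 4 by simp only [pow_succ, pow_zero, one_mul, mul_assoc],
      two_pow_four h R.2 y.2]
    exact one_mem _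

namespace MaxInter

omit [IsSimpleGroup G] in
theorem exists_notMem_zc (M : MaxInter D) (h : Orders G q r 4) {R : Sylow 2 G} (hR : D ≤ R) :
    ∃ d ∈ D, d ∉ zc (R : Subgroup G) := by
  by_contra hall
  push Not at hall
  have h1 := Subgroup.card_le_of_le (fun d hd => hall d hd : D ≤ zc (R : Subgroup G))
  rw [M.card_eq h R] at h1
  have := M.two_le_zc h R
  nlinarith

omit [IsSimpleGroup G] in
/-- An elementary abelian subgroup of `R ∩ N(D)` of order `|D|` is `D`, for `z > 2`. -/
theorem elem_eq (M : MaxInter D) (h : Orders G q r 4) {R : Sylow 2 G} (hR : D ≤ R)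
    (hU : Nat.card ↥((R : Subgroup G) ⊓ Subgroup.normalizer (D : Set G)) = 2 * Nat.card D)
    (hz : 3 ≤ Nat.card (zc (R : Subgroup G))) {E : Subgroup G}
    (hE : E ≤ (R : Subgroup G) ⊓ Subgroup.normalizer (D : Set G)) (hsq : ∀ x ∈ E, x * x = 1)
    (hc : Nat.card E = Nat.card D) : E = D := by
  by_contra hne
  obtain ⟨x, hx, hxD⟩ : ∃ x ∈ E, x ∉ D := by
    by_contra hall
    push Not at hall
    exact hne (Subgroup.eq_of_le_of_card_ge hall hc.ge)
  have key : ∀ e : E, (e : G) ∈ D → (e : G) ∈ zc (R : Subgroup G) := fun e he =>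
    (M.commute_iff h hR he (hE hx).1 hxD).1 (FiveOrders.commute_of_sq hsq hx e.2)
  classical
  have hmem : ∀ e : E, (e : G) ∉ D → x * (e : G) ∈ zc (R : Subgroup G) := fun e he =>
    key ⟨x * e, mul_mem hx e.2⟩
      (mem_or_mul_mem (le_inf hR Subgroup.le_normalizer) hU (hE hx) (hE e.2) hxD he)
  let f : E → Bool × zc (R : Subgroup G) := fun e =>
    if he : (e : G) ∈ D then (true, ⟨e, key e he⟩) else (false, ⟨x * e, hmem e he⟩)
  have hf : Function.Injective f := by
    intro a b e
    simp only [f] at e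
    by_cases ha : (a : G) ∈ D <;> by_cases hb : (b : G) ∈ D <;> simp [ha, hb] at e
    · exact e
    · exact e
  have h1 := Nat.card_le_card_of_injective f hf
  rw [Nat.card_prod, Nat.card_eq_fintype_card (α := Bool), Fintype.card_bool, hc, M.card_eq h R] at h1
  nlinarith

omit [IsSimpleGroup G] in
/-- For `z > 2` two Sylow 2-subgroups never meet. -/
theorem three_le_false (M : MaxInter D) (h : Orders G q r 4) {R : Sylow 2 G} (hR : D ≤ R)
    (hall : ∀ D' : Subgroup G, MaxInter D' → ∀ R' : Sylow 2 G, D' ≤ R' →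
      Nat.card ↥((R' : Subgroup G) ⊓ Subgroup.normalizer (D' : Set G)) = 2 * Nat.card D')
    (hz : 3 ≤ Nat.card (zc (R : Subgroup G))) : False := by
  have hU := hall D M R hR
  set K := Subgroup.normalizer (D : Set G) with hK
  have htop : (R : Subgroup G) ≤ K := by
    by_contra hle
    obtain ⟨x, hxR, hxn, hxU, -⟩ := exists_normalizing h R (inf_le_left : (R : Subgroup G) ⊓ K ≤ R)
      (fun e => hle (e ▸ inf_le_right))
    apply hxU
    refine ⟨hxR, FiveOrders.conjS_eq_iff_mem_normalizer.1 (M.elem_eq h hR hU hz ?_ ?_ (card_conjS x D))⟩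
    · exact (FiveOrders.conjS_mono x (le_inf hR Subgroup.le_normalizer)).trans
        (FiveOrders.conjS_eq_iff_mem_normalizer.2 hxn).le
    · exact fun y hy => FiveOrders.conjS_sq (fun a ha => M.sq h ha) hy
  obtain ⟨t, htR, htK, htD, htt⟩ := M.exists_involution h hR
  have hto : orderOf t = 2 := orderOf_eq_prime (by rw [pow_two, htt]) fun e => htD (e ▸ one_mem D)
  obtain ⟨T, hT⟩ := cent_sylow h hto
  have hTR : R ≠ T := by
    rintro rfl
    exact htD (M.zc_le h hR (mem_zc.2 ⟨htR, fun a ha =>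
      (Subgroup.mem_centralizer_singleton_iff.1 (hT.le ha))⟩))
  obtain ⟨c, hc, hc1⟩ : ∃ c ∈ zc (R : Subgroup G), c ≠ 1 :=
    (Subgroup.bot_or_exists_ne_one _).resolve_left fun e => by rw [e, Subgroup.card_bot] at hz; omega
  have htT : t ∈ (T : Subgroup G) := hT.ge (Subgroup.mem_centralizer_singleton_iff.2 rfl)
  have hcT : c ∈ (T : Subgroup G) :=
    hT.ge (Subgroup.mem_centralizer_singleton_iff.2 (((mem_zc.1 hc).2 t htR).eq.symm))
  obtain ⟨D₁, M₁, hD₁⟩ := exists_maxInter (A := (R : Subgroup G) ⊓ T)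
    (fun e => hc1 (Subgroup.mem_bot.1 (e ▸ ⟨(mem_zc.1 hc).1, hcT⟩))) hTR inf_le_left inf_le_right
  have hcen := sq_of_mem_zc h hc hc1 (M.sq h (M.zc_le h hR hc))
  have hD₁R : D₁ ≤ R := fun a ha => hcen.le (Subgroup.mem_centralizer_singleton_iff.2
    (M₁.comm h ha (hD₁ ⟨(mem_zc.1 hc).1, hcT⟩)).eq)
  have he := M.elem_eq h hR hU hz (E := D₁) (le_inf hD₁R (hD₁R.trans htop)) (fun a ha => M₁.sq h ha)
    (by rw [M₁.card_eq h R, M.card_eq h R])
  exact htD (he ▸ hD₁ ⟨htR, htT⟩)

omit [IsSimpleGroup G] in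
/-- For `z = 2` the Sylow 2-subgroup has order eight and some centralizer has order at most four. -/
theorem two_small (M : MaxInter D) (h : Orders G q r 4) {R : Sylow 2 G} (hR : D ≤ R)
    (hU : Nat.card ↥((R : Subgroup G) ⊓ Subgroup.normalizer (D : Set G)) = 2 * Nat.card D)
    (hz : Nat.card (zc (R : Subgroup G)) = 2) :
    ∃ w : G, Nat.card ↥(Subgroup.centralizer ({w} : Set G)) ≤ 4 := by
  have hD4 : Nat.card D = 4 := by rw [M.card_eq h R, hz]
  obtain ⟨d, hd, hdz⟩ := M.exists_notMem_zc h hR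
  have hzD := M.zc_le h hR
  set K := Subgroup.normalizer (D : Set G) with hK
  set U := (R : Subgroup G) ⊓ K with hUdef
  have hDU : D ≤ U := le_inf hR Subgroup.le_normalizer
  have key : ∀ x ∈ (R : Subgroup G), x ∈ Subgroup.normalizer (U : Set G) → x ∉ U → x * x ∈ U →
      x * d * x⁻¹ ∉ D ∧ x * x ∈ D := by
    intro x hx hxn hxU hxx
    have hfix : ∀ c ∈ zc (R : Subgroup G), x * c * x⁻¹ = c := fun c hc => by
      rw [((mem_zc.1 hc).2 x hx).eq, mul_inv_cancel_right]
    have he : x * d * x⁻¹ ∉ D := by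
      intro he
      apply hxU
      refine ⟨hx, FiveOrders.mem_normalizer_of_conj fun d' hd' => ?_⟩
      by_cases hz' : d' ∈ zc (R : Subgroup G)
      · rw [hfix d' hz']; exact hd'
      · have h1 : d' * d ∈ zc (R : Subgroup G) := mem_or_mul_mem hzD (by rw [hD4, hz]) hd' hd hz' hdz
        rw [show x * d' * x⁻¹ = x * (d' * d) * x⁻¹ * (x * d * x⁻¹)⁻¹ by group, hfix _ h1]
        exact mul_mem (hzD h1) (inv_mem he)
    refine ⟨he, ?_⟩
    by_contra hs
    set s := x * x with hsdef
    have hss : s * s = 1 := by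
      have := two_pow_four h R.2 hx
      rw [hsdef, ← this]; simp [pow_succ, mul_assoc]
    set e := x * d * x⁻¹ with hedef
    have heU : e ∈ U := (Subgroup.mem_normalizer_iff.1 hxn d).1 (hDU hd)
    have hee : e * e = 1 := FiveOrders.conj_sq (M.sq h hd)
    have hc : s * e ∈ D := mem_or_mul_mem hDU hU hxx heU hs he
    have hcz : s * e ∈ zc (R : Subgroup G) := by
      refine (M.commute_iff h hR hc heU.1 he).1 ?_
      have h1 := M.sq h hc
      show e * (s * e) = s * e * e
      calc e * (s * e) = s * (s * e * (s * e)) := by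
            rw [show s * (s * e * (s * e)) = (s * s) * e * (s * e) by group, hss, one_mul]
        _ = s * e * e := by rw [h1, mul_one, mul_assoc, hee, mul_one]
    apply hs
    have hsK : s ∈ K := hxx.2
    have hexe : x * e * x⁻¹ = s * d * s⁻¹ := by rw [hedef, hsdef]; group
    have : s = s * e * (s * d * s⁻¹) := by
      calc s = x * s * x⁻¹ := by rw [hsdef]; group
        _ = (x * (s * e) * x⁻¹) * (x * e⁻¹ * x⁻¹) := by group
        _ = s * e * (s * d * s⁻¹) := by
          rw [hfix _ hcz, inv_eq_of_mul_eq_one_right hee, hexe]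
    rw [this]
    exact mul_mem hc ((Subgroup.mem_normalizer_iff.1 hsK d).1 hd)
  have htop : U = R := by
    by_contra hne
    obtain ⟨x, hxR, hxn, hxU, hxx⟩ := exists_normalizing h R (inf_le_left : U ≤ R) hne
    obtain ⟨he, hs⟩ := key x hxR hxn hxU hxx
    have hdn : d ∈ Subgroup.normalizer (U : Set G) := Subgroup.le_normalizer (hDU hd)
    have heq : x * d * (x * d) = (x * d * x⁻¹) * (x * x) * d := by group
    obtain ⟨-, hs'⟩ := key (x * d) (mul_mem hxR (hR hd)) (mul_mem hxn hdn)
      (fun hm => hxU ((mul_mem_cancel_right (hDU hd)).1 hm))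
      (by rw [heq]; exact mul_mem (mul_mem ((Subgroup.mem_normalizer_iff.1 hxn d).1 (hDU hd)) hxx) (hDU hd))
    rw [heq, mul_mem_cancel_right hd, mul_mem_cancel_right hs] at hs'
    exact he hs'
  have hR8 : Nat.card R = 8 := by
    show Nat.card (R : Subgroup G) = 8
    rw [← htop, hU, hD4]
  obtain ⟨t, htR, htK, htD, htt⟩ := M.exists_involution h hR
  refine ⟨d * t, ?_⟩
  have htd : t * d * t ∈ D := by
    have := (Subgroup.mem_normalizer_iff.1 htK d).1 hd
    rwa [inv_eq_of_mul_eq_one_right htt] at this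
  have hnc : ¬ Commute t d := fun hc => hdz ((M.commute_iff h hR hd htR htD).1 hc)
  have hζD : d * t * (d * t) ∈ D := by
    rw [show d * t * (d * t) = d * (t * d * t) by group]; exact mul_mem hd htd
  have hζ1 : d * t * (d * t) ≠ 1 := fun e => hnc (by
    show t * d = d * t
    rw [mul_eq_one_iff_inv_eq, mul_inv_rev, inv_eq_of_mul_eq_one_right htt,
      inv_eq_of_mul_eq_one_right (M.sq h hd)] at e
    exact e)
  have hζz : Commute t (d * t * (d * t)) := by
    show t * (d * t * (d * t)) = d * t * (d * t) * t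
    calc t * (d * t * (d * t)) = (t * d * t) * d * t := by group
      _ = d * t * (d * t) * t := by rw [(M.comm h htd hd).eq]; group
  have hC := M.centralizer_eq h hR hζD hζ1 htR htD hζz
  have hle : Subgroup.centralizer ({d * t} : Set G) ≤ R := by
    intro a ha
    rw [← hC]
    have := Subgroup.mem_centralizer_singleton_iff.1 ha
    exact Subgroup.mem_centralizer_singleton_iff.2 ((show Commute a (d * t) from this).mul_right this).eq
  have hdvd := Subgroup.card_dvd_of_le hle
  rw [show Nat.card ↥(R : Subgroup G) = 8 from hR8] at hdvd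
  have hne : Nat.card ↥(Subgroup.centralizer ({d * t} : Set G)) ≠ 8 := by
    intro e
    have heq := Subgroup.eq_of_le_of_card_ge hle (by rw [show Nat.card ↥(R : Subgroup G) = 8 from hR8, e])
    have := Subgroup.mem_centralizer_singleton_iff.1 (heq.ge (hR hd))
    refine hnc ?_
    show t * d = d * t
    exact (mul_left_cancel (a := d) (by rw [this, mul_assoc])).symm
  have h8 := Nat.le_of_dvd (by norm_num) hdvd
  by_contra hlt
  push Not at hlt
  interval_cases hh : Nat.card ↥(Subgroup.centralizer ({d * t} : Set G)) <;> omega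

end MaxInter

/-- The conclusion when two Sylow 2-subgroups meet non-trivially. -/
theorem non_ti (hG : ¬ IsMulCommutative G) (h : Orders G q r 4)
    (hne : ∃ P Q : Sylow 2 G, P ≠ Q ∧ (P : Subgroup G) ⊓ Q ≠ ⊥) : Concl G := by
  by_contra hC
  obtain ⟨P, Q, hPQ, hb⟩ := hne
  obtain ⟨D, M, -⟩ := exists_maxInter hb hPQ inf_le_left inf_le_right
  obtain ⟨R, S, -, hR, -⟩ := M.ex
  have hall : ∀ D' : Subgroup G, MaxInter D' → ∀ R' : Sylow 2 G, D' ≤ R' →
      Nat.card ↥((R' : Subgroup G) ⊓ Subgroup.normalizer (D' : Set G)) = 2 * Nat.card D' :=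
    fun D' M' R' hR' => (M'.two_mul_eq h hR').resolve_left hC
  rcases lt_or_ge (Nat.card (zc (R : Subgroup G))) 3 with hz | hz
  · obtain ⟨w, hw⟩ := M.two_small h hR (hall D M R hR) (by have := M.two_le_zc h R; omega)
    rcases S3280.result (G := G) (fun hc => hG (by
        haveI := hc
        letI := IsCyclic.commGroup (α := G)
        exact ⟨⟨fun a b => mul_comm a b⟩⟩)) w hw with e | e | ⟨⟨e⟩⟩ | ⟨F, iF, iK, hF, he⟩
    · exact hC (Or.inl e)
    · exact hC (Or.inr (Or.inl e))
    · let a : alternatingGroup (Fin 7) :=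
        ⟨Equiv.swap 0 1 * Equiv.swap 1 2 * (Equiv.swap 3 4 * Equiv.swap 5 6),
          Equiv.Perm.mem_alternatingGroup.2 (by decide)⟩
      have ha : orderOf a = 6 := by
        rw [orderOf_eq_iff (by norm_num)]
        refine ⟨by decide +kernel, fun m hm hm0 => ?_⟩
        interval_cases m <;> decide +kernel
      exact mul_notMem h Nat.prime_two Nat.prime_three (by norm_num)
        ⟨e.symm a, by rw [MulEquiv.orderOf_eq]; exact ha⟩
    · exact hC (Or.inr (Or.inr ⟨F, iF, iK, Or.inl hF, he⟩))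
  · exact M.three_le_false h hR hall hz

end Cfsg.Agent.GroupStructure3.FiveOrbits.Four
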