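import Cfsg.Agent.GroupStructure3.FiveOrbits.Four.Fpf

/-!
# Counting the elements of odd prime order
-/

set_option autoImplicit false

namespace Cfsg.Agent.GroupStructure3.FiveOrbits.Four

open FiveOrders (conjS mem_conjS card_conjS fibre_count centralizer_conj)

universe u

variable {G : Type u} [Group G] [Finite G] {q r : ℕ}

theorem odd_count [IsSimpleGroup G] (h : Orders G q r 4) (hns : ¬ Group.IsSolvable G) [hr : Fact r.Prime]
    (R : Sylow r G) :
    9 * numOrd G r < Nat.card G ∨
      ∃ e b : ℕ, 1 ≤ b ∧ Nat.card R = r ^ b ∧ ((∃ k, 1 ≤ k ∧ e = 2 ^ k) ∨ e = q) ∧ e ∣ Nat.card R - 1 ∧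
        numOrd G r * (e * Nat.card R) = Nat.card G * (Nat.card R - 1) := by
  classical
  have hR3 : 3 ≤ r := by have := h.hr.two_le; have := h.r2; omega
  obtain ⟨b, hb⟩ := R.2.exists_card_eq
  have hrR : r ∣ Nat.card R := R.dvd_card_of_dvd_card h.dvd_card.2.2
  have hb1 : 1 ≤ b := by
    by_contra hlt
    rw [hb, show b = 0 by omega, pow_zero, Nat.dvd_one] at hrR
    exact h.hr.ne_one hrR
  haveI hnt : Nontrivial (R : Subgroup G) := by
    rw [← Finite.one_lt_card_iff_nontrivial]
    exact lt_of_lt_of_le h.hr.one_lt (Nat.le_of_dvd Nat.card_pos hrR)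
  have hCp : ∀ g : G, orderOf g = r → IsPGroup r (Subgroup.centralizer ({g} : Set G)) := fun g hg =>
    isPGroup_centralizer (alone h h.hr) hg
  obtain ⟨hle, -⟩ := r_count R h.dvd_card.2.2 hCp (fun a c ha hc => h.conj a c (ha.trans hc.symm))
  set N := Subgroup.normalizer ((R : Subgroup G) : Set G) with hN
  set Z := Subgroup.center (R : Subgroup G) with hZ
  by_cases hab : Z = ⊤
  · right
    have hcomm : ∀ a ∈ (R : Subgroup G), ∀ c ∈ (R : Subgroup G), a * c = c * a := fun a ha c hc =>
      (congrArg Subtype.val (Subgroup.mem_center_iff.1 (hab ▸ Subgroup.mem_top (⟨c, hc⟩ : (R : Subgroup G))) ⟨a, ha⟩) :)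
    have hord : ∀ x ∈ (R : Subgroup G), x ≠ 1 → orderOf x = r := fun x hx hx1 =>
      orderOf_eq_prime (sylow_pow_prime h h.hr h.r2 R.2 hx) hx1
    have hcen : ∀ x ∈ (R : Subgroup G), x ≠ 1 → Subgroup.centralizer ({x} : Set G) = R := fun x hx hx1 =>
      R.3 (hCp x (hord x hx hx1)) fun a ha => Subgroup.mem_centralizer_singleton_iff.2 (hcomm a ha x hx)
    have hcount : numOrd G r * Nat.card N = Nat.card G * (Nat.card R - 1) := by
      have key := fibre_count (A := {g : G | orderOf g = r}) (fun g => Subgroup.centralizer ({g} : Set G))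
        (R : Subgroup G) (fun g a ha => by
          simp only [Set.mem_setOf_eq] at ha ⊢
          rw [← ha]; exact MulEquiv.orderOf_eq (MulAut.conj g) a)
        (fun g a _ => centralizer_conj g a) (fun a ha => by
          obtain ⟨g, hg⟩ := exists_conj_mem_sylow R (x := a) (k := 1) (by rw [pow_one]; exact ha)
          have ha1 : g⁻¹ * a * g ≠ 1 := fun e => by
            have : a = 1 := by
              have h1 := congrArg (fun y => g * y * g⁻¹) e
              simpa [mul_assoc] using h1
            rw [Set.mem_setOf_eq, this, orderOf_one] at ha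
            exact h.hr.ne_one ha.symm
          exact ⟨g, by rw [← hcen _ hg ha1, ← centralizer_conj]; congr 1; group⟩)
      rw [show numOrd G r = Nat.card {g : G | orderOf g = r} from rfl, key]
      congr 1
      have h1 := Set.ncard_sdiff_singleton_add_one (show (1 : G) ∈ ((R : Subgroup G) : Set G) from one_mem _)
        (Set.toFinite _)
      rw [show ((R : Subgroup G) : Set G).ncard = Nat.card R from (Nat.card_coe_set_eq _).symm] at h1
      have h2 : {a : G | a ∈ {g : G | orderOf g = r} ∧ Subgroup.centralizer ({a} : Set G) = R} =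
          ((R : Subgroup G) : Set G) \ {1} := by
        ext a
        simp only [Set.mem_setOf_eq, Set.mem_sdiff, Set.mem_singleton_iff, SetLike.mem_coe]
        constructor
        · rintro ⟨ha, e⟩
          refine ⟨e ▸ Subgroup.mem_centralizer_singleton_iff.2 rfl, fun e1 => h.hr.ne_one ?_⟩
          rw [← ha, e1, orderOf_one]
        · rintro ⟨ha, a1⟩
          exact ⟨hord a ha a1, hcen a ha a1⟩
      rw [Nat.card_coe_set_eq, h2]
      omega
    set e := (R : Subgroup G).relIndex N with he
    have hNe : Nat.card N = e * Nat.card R := by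
      have h1 := ((R : Subgroup G).subgroupOf N).card_mul_index
      rw [Nat.card_congr (Subgroup.subgroupOfEquivOfLe (Subgroup.le_normalizer : (R : Subgroup G) ≤ N)).toEquiv,
        mul_comm] at h1
      exact h1.symm
    rw [hNe] at hcount
    have hcop : ¬ r ∣ e := fun hd => R.not_dvd_index (hd.trans
      (Dvd.intro _ (Subgroup.relIndex_mul_index (Subgroup.le_normalizer : (R : Subgroup G) ≤ N))))
    have he1 : e ≠ 1 := by
      intro e1
      have heq : N = (R : Subgroup G) := (Subgroup.eq_of_le_of_card_ge Subgroup.le_normalizer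
        (by rw [← hN, hNe, e1, one_mul])).symm
      have hc : N ≤ Subgroup.centralizer ((R : Subgroup G) : Set G) := fun x hx =>
        Subgroup.mem_centralizer_iff.2 fun y hy => hcomm y hy x (heq ▸ hx)
      have hcomp := MonoidHom.ker_transferSylow_isComplement' R hc
      rcases IsSimpleGroup.eq_bot_or_eq_top_of_normal (MonoidHom.transferSylow R hc).ker inferInstance with e' | e'
      · rw [e', Subgroup.isComplement'_bot_left] at hcomp
        apply hns
        haveI := R.2.isNilpotent
        exact Group.isSolvable_of_surjective (f := (R : Subgroup G).subtype) fun x =>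
          ⟨⟨x, hcomp.symm ▸ Subgroup.mem_top x⟩, rfl⟩
      · rw [e', Subgroup.isComplement'_top_left] at hcomp
        rw [hcomp] at hrR
        exact h.hr.ne_one (Nat.dvd_one.1 (by simpa using hrR))
    obtain ⟨H, hHN, hH⟩ : ∃ H : Subgroup G, H ≤ N ∧ Nat.card H = e := by
      haveI : ((R : Subgroup G).subgroupOf N).Normal := Subgroup.normal_in_normalizer
      have hc' : Nat.card ((R : Subgroup G).subgroupOf N) = r ^ b := by
        rw [Nat.card_congr (Subgroup.subgroupOfEquivOfLe (Subgroup.le_normalizer : (R : Subgroup G) ≤ N)).toEquiv]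
        exact hb
      obtain ⟨H, hH⟩ := Subgroup.exists_right_complement'_of_coprime (N := (R : Subgroup G).subgroupOf N) (by
        rw [hc']
        exact Nat.Coprime.pow_left b ((h.hr.coprime_iff_not_dvd).2 hcop))
      refine ⟨H.map N.subtype, Subgroup.map_subtype_le _, ?_⟩
      rw [Subgroup.card_map_of_injective N.subtype_injective]
      exact Nat.eq_of_mul_eq_mul_left Nat.card_pos (hH.card_mul.trans ((R : Subgroup G).subgroupOf N).card_mul_index.symm)
    have hHR : ∀ m ∈ H, m ∈ (R : Subgroup G) → m = 1 := by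
      intro m hm hmR
      by_contra hm1
      exact hcop (hH ▸ hord m hmR hm1 ▸ Subgroup.orderOf_dvd_natCard H hm)
    have hfree : ∀ m ∈ H, m ≠ 1 → ∀ x ∈ (R : Subgroup G), x ≠ 1 → ¬ Commute m x := fun m hm hm1 x hx hx1 hc =>
      hm1 (hHR m hm ((hcen x hx hx1).le (Subgroup.mem_centralizer_singleton_iff.2 hc.eq)))
    have hed : e ∣ Nat.card R - 1 := hH ▸ FiveOrders.dvd_card_sub_one hHN hfree
    refine ⟨e, b, hb1, hb, ?_, hed, hcount⟩
    haveI := Fact.mk h.hq
    have hqe : q ∣ e → ¬ 2 ∣ e := by
      intro hq h2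
      obtain ⟨u, hu⟩ := exists_prime_orderOf_dvd_card' (G := H) 2 (hH.symm ▸ h2) (hp := ⟨Nat.prime_two⟩)
      obtain ⟨a, ha⟩ := exists_prime_orderOf_dvd_card' (G := H) q (hH.symm ▸ hq)
      have hinv : ∀ v ∈ H, orderOf v = 2 → ∀ x ∈ (R : Subgroup G), v * x * v⁻¹ = x⁻¹ := by
        intro v hv hvo x hx
        have hx' : v * x * v⁻¹ ∈ (R : Subgroup G) := (Subgroup.mem_normalizer_iff.1 (hHN hv) x).1 hx
        have hvv : v * v = 1 := by rw [← pow_two, ← hvo]; exact pow_orderOf_eq_one v
        have hvi : v⁻¹ = v := inv_eq_of_mul_eq_one_right hvv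
        by_contra hne
        refine hfree v hv (fun e => by rw [e, orderOf_one] at hvo; omega) _ (mul_mem hx hx')
          (fun e => hne (eq_inv_of_mul_eq_one_right e)) ?_
        show v * (x * (v * x * v⁻¹)) = x * (v * x * v⁻¹) * v
        calc v * (x * (v * x * v⁻¹)) = v * x * v⁻¹ * (v * v) * x * v⁻¹ := by group
          _ = v * x * v⁻¹ * x * v := by rw [hvv, mul_one, hvi]
          _ = _ := by rw [hcomm x hx _ hx']
      obtain ⟨x, hx, hx1⟩ := (Subgroup.bot_or_exists_ne_one (R : Subgroup G)).resolve_left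
        ((Subgroup.nontrivial_iff_ne_bot _).1 hnt)
      set v := (a : G) * u * (a : G)⁻¹ with hv
      have huo : orderOf (u : G) = 2 := by rw [Subgroup.orderOf_coe, hu]
      have hvo : orderOf v = 2 := by rw [hv, ← MulAut.conj_apply, MulEquiv.orderOf_eq, huo]
      have hvH : v ∈ H := mul_mem (mul_mem a.2 u.2) (inv_mem a.2)
      have h1 := hinv u u.2 huo x hx
      have h2' := hinv v hvH hvo x hx
      have huv : (u : G)⁻¹ * v = 1 := by
        by_contra hne
        refine hfree _ (mul_mem (inv_mem u.2) hvH) hne x hx hx1 ?_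
        show (u : G)⁻¹ * v * x = x * ((u : G)⁻¹ * v)
        calc (u : G)⁻¹ * v * x = (u : G)⁻¹ * (v * x * v⁻¹) * v := by group
          _ = (u : G)⁻¹ * ((u : G) * x * (u : G)⁻¹) * v := by rw [h1, h2']
          _ = x * ((u : G)⁻¹ * v) := by group
      rw [inv_mul_eq_one, hv] at huv
      exact not_commute Nat.prime_two h.hq h.q2.symm (alone h Nat.prime_two q h.hq h.q2) huo
        (show orderOf (a : G) = q by rw [Subgroup.orderOf_coe, ha])
        (show (u : G) * a = a * u by nth_rewrite 1 [huv]; group)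
    have hpr : ∀ p : ℕ, p.Prime → p ∣ e → p = 2 ∨ p = q := fun p hp hpe => by
      rcases h.prime_cases (by norm_num) hp (hpe.trans (hH ▸ Subgroup.card_subgroup_dvd_card H)) with e | e | e
      exacts [Or.inl e, Or.inr e, absurd (e ▸ hpe) hcop]
    have he0 : e ≠ 0 := fun e0 => hcop (e0 ▸ dvd_zero r)
    by_cases hqd : q ∣ e
    · right
      have hpow := Nat.eq_prime_pow_of_unique_prime_dvd he0 (p := q) fun {p} hp hpe =>
        (hpr p hp hpe).resolve_left fun e2 => hqe hqd (e2 ▸ hpe)
      have hle' := card_pgroup_le_of_fpf (P := H) (K := (R : Subgroup G))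
        (IsPGroup.of_card (hH.trans hpow))
        (fun a ha => sylow_pow_prime h h.hq h.q2 (IsPGroup.of_card (hH.trans hpow)) ha)
        ((Subgroup.nontrivial_iff_ne_bot _).1 hnt) hHN
        (fun hd => h.qr ((Nat.prime_dvd_prime_iff_eq h.hq h.hr).1 (h.hq.dvd_of_dvd_pow (hb ▸ hd))))
        (fun a ha ha1 x hx hc => by
          by_contra hx1
          exact hfree a ha ha1 x hx hx1 hc)
      exact le_antisymm (hH ▸ hle') (Nat.le_of_dvd (Nat.pos_of_ne_zero he0) hqd)
    · left
      have hpow := Nat.eq_prime_pow_of_unique_prime_dvd he0 (p := 2) fun {p} hp hpe =>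
        (hpr p hp hpe).resolve_right fun e2 => hqd (e2 ▸ hpe)
      refine ⟨_, ?_, hpow⟩
      by_contra hlt
      exact he1 (by rw [hpow, Nat.lt_one_iff.1 (not_le.1 hlt), pow_zero])
  · left
    have hdvd := Subgroup.card_mul_index Z
    have hi : r ^ 2 ≤ Z.index := by
      obtain ⟨k, -, hk⟩ := (Nat.dvd_prime_pow h.hr).1
        (show Z.index ∣ r ^ b from hb ▸ Subgroup.index_dvd_card Z)
      rw [hk]
      refine Nat.pow_le_pow_right h.hr.pos ?_
      by_contra hlt
      apply hab
      haveI : IsCyclic ((R : Subgroup G) ⧸ Z) := by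
        rcases (show k = 0 ∨ k = 1 by omega) with rfl | rfl
        · haveI : Subsingleton ((R : Subgroup G) ⧸ Z) := by
            rw [← Finite.card_le_one_iff_subsingleton, ← Subgroup.index_eq_card, hk, pow_zero]
          infer_instance
        · exact isCyclic_of_prime_card (α := (R : Subgroup G) ⧸ Z) (p := r)
            (by rw [← Subgroup.index_eq_card, hk, pow_one])
      exact (Subgroup.eq_top_iff' _).2 fun a => Subgroup.mem_center_iff.2 fun c =>
        commutative_of_cyclic_center_quotient (QuotientGroup.mk' Z) (by rw [QuotientGroup.ker_mk']) c a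
    have h9 : 9 ≤ r ^ 2 := by rw [pow_two]; exact le_trans (by norm_num) (Nat.mul_le_mul hR3 hR3)
    have hRN : Nat.card R ≤ Nat.card N := Nat.le_of_dvd Nat.card_pos (Subgroup.card_dvd_of_le Subgroup.le_normalizer)
    have h2 : numOrd G r * (Nat.card Z * 9) ≤ numOrd G r * Nat.card N :=
      Nat.mul_le_mul_left _ (le_trans (Nat.mul_le_mul_left _ (h9.trans hi)) (hdvd.le.trans hRN))
    have hG0 := Nat.card_pos (α := G)
    have hZ0 : 0 < Nat.card Z := Nat.card_pos
    nlinarith

end Cfsg.Agent.GroupStructure3.FiveOrbits.Four
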