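import Cfsg.Agent.GroupStructure3.FiveOrbits.TwoQ.Tools

/-!
# The spectrum `{1, 2, q, r, 4}`: basic facts
-/

set_option autoImplicit false

namespace Cfsg.Agent.GroupStructure3.FiveOrbits.Four

open FiveOrders (conjS mem_conjS card_conjS)

universe u

variable {G : Type u} [Group G] [Finite G] {q r : ℕ}

theorem mem_iff (h : Orders G q r 4) {n : ℕ} : n ∈ spec G ↔ n = 1 ∨ n = 2 ∨ n = q ∨ n = r ∨ n = 4 := by
  rw [h.spec_eq]; simp

theorem eight_notMem (h : Orders G q r 4) : 8 ∉ spec G := by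
  rw [mem_iff h]
  rintro (e | e | e | e | e)
  · omega
  · omega
  · exact absurd (e ▸ h.hq) (by norm_num)
  · exact absurd (e ▸ h.hr) (by norm_num)
  · omega

theorem mul_notMem (h : Orders G q r 4) {s t : ℕ} (hs : s.Prime) (ht : t.Prime) (hne : ¬ (s = 2 ∧ t = 2)) :
    s * t ∉ spec G := by
  rw [mem_iff h]
  rintro (e | e | e | e | e)
  · exact hs.ne_one (mul_eq_one.1 e).1
  · exact Nat.not_prime_mul hs.ne_one ht.ne_one (e ▸ Nat.prime_two)
  · exact Nat.not_prime_mul hs.ne_one ht.ne_one (e ▸ h.hq)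
  · exact Nat.not_prime_mul hs.ne_one ht.ne_one (e ▸ h.hr)
  · refine hne ?_
    have h2 : s ∣ 2 ^ 2 := ⟨t, e.symm⟩
    have := (Nat.prime_dvd_prime_iff_eq hs Nat.prime_two).1 (hs.dvd_of_dvd_pow h2)
    subst this
    omega

theorem alone (h : Orders G q r 4) {s : ℕ} (hs : s.Prime) : ∀ t : ℕ, t.Prime → t ≠ s → s * t ∉ spec G :=
  fun _ ht hne => mul_notMem h hs ht fun e => hne (e.2.trans e.1.symm)

theorem pow_four (h : Orders G q r 4) {x : G} {k : ℕ} (hx : x ^ 2 ^ k = 1) : x ^ 4 = 1 := by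
  obtain ⟨j, -, hj⟩ := (Nat.dvd_prime_pow Nat.prime_two).1 (orderOf_dvd_of_pow_eq_one hx)
  have hj2 : j ≤ 2 := by
    by_contra hlt
    exact eight_notMem h (dvd_mem_spec (mem_spec x) (hj ▸ (pow_dvd_pow 2 (show 3 ≤ j by omega))))
  rw [← orderOf_dvd_iff_pow_eq_one, hj]
  exact pow_dvd_pow 2 hj2

theorem two_pow_four (h : Orders G q r 4) {P : Subgroup G} (hP : IsPGroup 2 P) {x : G} (hx : x ∈ P) :
    x ^ 4 = 1 := by
  obtain ⟨k, hk⟩ := hP ⟨x, hx⟩
  exact pow_four h (congrArg Subtype.val hk : x ^ 2 ^ k = 1)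

theorem pow_prime (h : Orders G q r 4) {s : ℕ} (hs : s.Prime) (s2 : s ≠ 2) {x : G} {k : ℕ}
    (hx : x ^ s ^ k = 1) : x ^ s = 1 := by
  obtain ⟨j, -, hj⟩ := (Nat.dvd_prime_pow hs).1 (orderOf_dvd_of_pow_eq_one hx)
  rcases j with _ | _ | j
  · rw [pow_zero, orderOf_eq_one_iff] at hj; rw [hj, one_pow]
  · rw [← orderOf_dvd_iff_pow_eq_one, hj, zero_add, pow_one]
  · refine absurd (dvd_mem_spec (mem_spec x) (hj ▸ Dvd.intro (s ^ j) ?_)) (mul_notMem h hs hs fun e => s2 e.1)
    ring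

theorem sylow_pow_prime (h : Orders G q r 4) {s : ℕ} (hs : s.Prime) (s2 : s ≠ 2) {P : Subgroup G}
    (hP : IsPGroup s P) {x : G} (hx : x ∈ P) : x ^ s = 1 := by
  obtain ⟨k, hk⟩ := hP ⟨x, hx⟩
  exact pow_prime h hs s2 (congrArg Subtype.val hk : x ^ s ^ k = 1)

/-- Elements of odd prime order fix no non-trivial 2-element. -/
theorem no_comm_two (h : Orders G q r 4) {a b : G} (ha : a ^ 4 = 1) {s : ℕ} (hs : s.Prime) (s2 : s ≠ 2)
    (hb : orderOf b = s) (hc : Commute a b) : a = 1 := by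
  by_contra ha1
  by_cases h2 : a * a = 1
  · exact not_commute Nat.prime_two hs (Ne.symm s2) (alone h Nat.prime_two s hs s2)
      (orderOf_eq_prime (by rw [pow_two, h2]) ha1) hb hc
  · exact not_commute Nat.prime_two hs (Ne.symm s2) (alone h Nat.prime_two s hs s2)
      (orderOf_eq_prime (by rw [pow_two, ← ha]; simp [pow_succ, mul_assoc]) h2) hb (hc.mul_left hc)

theorem centralizer_two (h : Orders G q r 4) {t : G} (ht : orderOf t = 2) :
    IsPGroup 2 (Subgroup.centralizer ({t} : Set G)) :=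
  haveI : Fact (Nat.Prime 2) := ⟨Nat.prime_two⟩
  isPGroup_centralizer (alone h Nat.prime_two) ht

theorem card_centralizer_eq (h : Orders G q r 4) {a b : G} (hab : orderOf a = orderOf b) :
    Nat.card (Subgroup.centralizer ({a} : Set G)) = Nat.card (Subgroup.centralizer ({b} : Set G)) := by
  obtain ⟨f, rfl⟩ := h.conj a b hab
  exact (card_centralizer_map f a).symm

variable [Fact (Nat.Prime 2)]

theorem eq_centralizer (h : Orders G q r 4) (P : Sylow 2 G) {t : G} (ht : orderOf t = 2)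
    (hP : (P : Subgroup G) ≤ Subgroup.centralizer ({t} : Set G)) :
    Subgroup.centralizer ({t} : Set G) = P :=
  P.3 (centralizer_two h ht) hP

/-- Every centralizer of an involution is a Sylow 2-subgroup. -/
theorem cent_sylow (h : Orders G q r 4) {t : G} (ht : orderOf t = 2) :
    ∃ T : Sylow 2 G, (T : Subgroup G) = Subgroup.centralizer ({t} : Set G) := by
  obtain ⟨S⟩ : Nonempty (Sylow 2 G) := inferInstance
  obtain ⟨T, hT⟩ := (centralizer_two h ht).exists_le_sylow
  refine ⟨T, (Subgroup.eq_of_le_of_card_ge hT ?_).symm⟩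
  haveI : Nontrivial (S : Subgroup G) := by
    rw [← Finite.one_lt_card_iff_nontrivial]
    exact lt_of_lt_of_le one_lt_two (Nat.le_of_dvd Nat.card_pos (S.dvd_card_of_dvd_card h.dvd_card.1))
  haveI := S.2.center_nontrivial
  obtain ⟨j, hj, hjc⟩ := (S.2.to_subgroup (Subgroup.center (S : Subgroup G))).nontrivial_iff_card.1 inferInstance
  obtain ⟨z, hz⟩ := exists_prime_orderOf_dvd_card' (G := Subgroup.center (S : Subgroup G)) 2
    (hjc ▸ dvd_pow_self 2 hj.ne')
  have hzo : orderOf ((z : (S : Subgroup G)) : G) = 2 := by rw [Subgroup.orderOf_coe, Subgroup.orderOf_coe, hz]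
  have hS : (S : Subgroup G) ≤ Subgroup.centralizer ({((z : (S : Subgroup G)) : G)} : Set G) := fun x hx =>
    Subgroup.mem_centralizer_singleton_iff.2 (congrArg Subtype.val (Subgroup.mem_center_iff.1 z.2 ⟨x, hx⟩) :)
  rw [card_centralizer_eq h (ht.trans hzo.symm), eq_centralizer h S hzo hS, T.card_eq_multiplicity,
    S.card_eq_multiplicity]

theorem mul_pow_four (h : Orders G q r 4) {D : Subgroup G} (hD : IsPGroup 2 D) {u : G}
    (hu : u ∈ Subgroup.normalizer (D : Set G)) (hu4 : u ^ 4 = 1) {d : G} (hd : d ∈ D) : (u * d) ^ 4 = 1 := by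
  have hU : IsPGroup 2 (Subgroup.zpowers u) := by
    intro x
    refine ⟨2, Subtype.ext ?_⟩
    obtain ⟨m, hm⟩ := Subgroup.mem_zpowers_iff.1 x.2
    show (x : G) ^ (2 ^ 2) = 1
    rw [← hm, ← zpow_natCast, ← zpow_mul, mul_comm, zpow_mul, zpow_natCast]
    norm_num [hu4]
  exact two_pow_four h (hU.to_sup_of_normal_right' hD (Subgroup.zpowers_le.2 hu))
    (mul_mem (Subgroup.mem_sup_left (Subgroup.mem_zpowers u)) (Subgroup.mem_sup_right hd))

/-- The centre of a subgroup, as a subgroup of the whole group. -/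
def zc (P : Subgroup G) : Subgroup G := P ⊓ Subgroup.centralizer (P : Set G)

omit [Finite G] [Fact (Nat.Prime 2)] in
theorem mem_zc {P : Subgroup G} {x : G} : x ∈ zc P ↔ x ∈ P ∧ ∀ a ∈ P, Commute a x := by
  rw [zc, Subgroup.mem_inf, Subgroup.mem_centralizer_iff]
  rfl

theorem card_zc (P Q : Sylow 2 G) : Nat.card (zc (P : Subgroup G)) = Nat.card (zc (Q : Subgroup G)) := by
  obtain ⟨g, rfl⟩ := MulAction.exists_smul_eq G P Q
  have e : (zc (P : Subgroup G)).map (MulAut.conj g).toMonoidHom = zc ((g • P : Sylow 2 G) : Subgroup G) := by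
    ext x
    have hm : ∀ a : G, a ∈ ((g • P : Sylow 2 G) : Subgroup G) ↔ g⁻¹ * a * g ∈ (P : Subgroup G) := fun a => by
      rw [Sylow.coe_subgroup_smul, Subgroup.mem_pointwise_smul_iff_inv_smul_mem, ← map_inv, MulAut.smul_def,
        MulAut.conj_apply, inv_inv]
    rw [show (zc (P : Subgroup G)).map (MulAut.conj g).toMonoidHom = conjS g (zc (P : Subgroup G)) from rfl,
      mem_conjS, mem_zc, mem_zc, hm]
    refine and_congr_right fun _ => ⟨fun hh a ha => ?_, fun hh a ha => ?_⟩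
    · have := (hh _ ((hm a).1 ha)).map (MulAut.conj g).toMonoidHom
      simpa [mul_assoc] using this
    · have := (hh (g * a * g⁻¹) ((hm _).2 (by simpa [mul_assoc] using ha))).map (MulAut.conj g⁻¹).toMonoidHom
      simpa [mul_assoc] using this
  rw [← e, Subgroup.card_map_of_injective (MulAut.conj g).injective]

theorem sq_of_mem_zc (h : Orders G q r 4) {P : Sylow 2 G} {x : G} (hx : x ∈ zc (P : Subgroup G)) (hx1 : x ≠ 1)
    (hxx : x * x = 1) : Subgroup.centralizer ({x} : Set G) = P :=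
  eq_centralizer h P (orderOf_eq_prime (by rw [pow_two, hxx]) hx1) fun a ha =>
    Subgroup.mem_centralizer_singleton_iff.2 ((mem_zc.1 hx).2 a ha).eq

end Cfsg.Agent.GroupStructure3.FiveOrbits.Four
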