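import Cfsg.Agent.GroupStructure3.FiveOrbits.Four.Fpf
import Cfsg.Agent.Lib.Involutions.Basic
import Cfsg.Agent.S0204

/-!
# Trivially intersecting Sylow 2-subgroups
-/

set_option autoImplicit false

namespace Cfsg.Agent.GroupStructure3.FiveOrbits.Four

open FiveOrders (conjS mem_conjS card_conjS fibre_count centralizer_conj)

universe u

variable {G : Type u} [Group G] [Finite G] {q r : ℕ}

/-- Distinct Sylow 2-subgroups meet trivially. -/
def TI (G : Type u) [Group G] : Prop :=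
  ∀ (P Q : Sylow 2 G) (x : G), x ∈ (P : Subgroup G) → x ∈ (Q : Subgroup G) → x ≠ 1 → P = Q

omit [Finite G] in
theorem exists_complement_of_coprime {N : Subgroup G} (K : Subgroup G) [Finite G] (hK : K ≤ N)
    (hn : N ≤ Subgroup.normalizer (K : Set G)) (hcop : (Nat.card K).Coprime (K.relIndex N)) :
    ∃ H : Subgroup G, H ≤ N ∧ Nat.card H = K.relIndex N := by
  haveI : (K.subgroupOf N).Normal := (Subgroup.normal_subgroupOf_iff_le_normalizer hK).2 hn
  have hc : Nat.card (K.subgroupOf N) = Nat.card K := Nat.card_congr (Subgroup.subgroupOfEquivOfLe hK).toEquiv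
  obtain ⟨H, hH⟩ := Subgroup.exists_right_complement'_of_coprime (N := K.subgroupOf N) (by rw [hc]; exact hcop)
  refine ⟨H.map N.subtype, Subgroup.map_subtype_le _, ?_⟩
  rw [Subgroup.card_map_of_injective N.subtype_injective]
  have h1 := hH.card_mul
  have h2 := (K.subgroupOf N).card_mul_index
  exact Nat.eq_of_mul_eq_mul_left Nat.card_pos (h1.trans h2.symm)

theorem odd_part_dvd (h : Orders G q r 4) {H K : Subgroup G} (hK : K ≠ ⊥) (hKp : IsPGroup 2 K)
    (hHK : H ≤ Subgroup.normalizer (K : Set G)) (hodd : ¬ 2 ∣ Nat.card H) : Nat.card H ∣ q * r := by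
  rw [Nat.dvd_iff_prime_pow_dvd_dvd]
  intro p n hp hdvd
  rcases n with _ | n
  · simp
  haveI := Fact.mk hp
  have hpH : p ∣ Nat.card H := (dvd_pow_self p n.succ_ne_zero).trans hdvd
  have hp2 : p ≠ 2 := by rintro rfl; exact hodd hpH
  obtain ⟨P⟩ : Nonempty (Sylow p H) := inferInstance
  have hle := card_pgroup_le_of_fpf (P.2.map H.subtype)
    (fun a ha => sylow_pow_prime h hp hp2 (P.2.map H.subtype) ha) hK ((Subgroup.map_subtype_le _).trans hHK)
    (fun hd => hp2 (by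
      obtain ⟨k, hk⟩ := hKp.exists_card_eq
      exact (Nat.prime_dvd_prime_iff_eq hp Nat.prime_two).1 (hp.dvd_of_dvd_pow (hk ▸ hd))))
    (fun a ha ha1 d hd hcd => no_comm_two h (two_pow_four h hKp hd) hp hp2
      (orderOf_eq_prime (sylow_pow_prime h hp hp2 (P.2.map H.subtype) ha) ha1) hcd.symm)
  rw [Subgroup.card_map_of_injective H.subtype_injective] at hle
  have hn1 : n = 0 := by
    have h2 : p ^ (n + 1) ≤ Nat.card P := Nat.le_of_dvd Nat.card_pos (P.pow_dvd_card_of_pow_dvd_card hdvd)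
    by_contra hn0
    have h3 : p ^ 1 < p ^ (n + 1) := Nat.pow_lt_pow_right hp.one_lt (by omega)
    rw [pow_one] at h3
    omega
  subst hn1
  rw [zero_add, pow_one]
  rcases h.prime_cases (by norm_num) hp (hpH.trans (Subgroup.card_subgroup_dvd_card H)) with e | e | e
  · exact absurd e hp2
  · exact e ▸ dvd_mul_right q r
  · exact e ▸ dvd_mul_left r q

theorem not_isPGroup_two [Fact (Nat.Prime 2)] (h : Orders G q r 4) : ¬ IsPGroup 2 G := by
  intro hp
  obtain ⟨k, hk⟩ := hp.exists_card_eq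
  exact h.q2 ((Nat.prime_dvd_prime_iff_eq h.hq Nat.prime_two).1 (h.hq.dvd_of_dvd_pow (hk ▸ h.dvd_card.2.1)))

section
variable [Fact (Nat.Prime 2)]

theorem TI.centralizer_eq (hti : TI G) (h : Orders G q r 4) (S : Sylow 2 G) {t : G} (ht : t ∈ (S : Subgroup G))
    (hto : orderOf t = 2) : Subgroup.centralizer ({t} : Set G) = S := by
  obtain ⟨T, hT⟩ := cent_sylow h hto
  rw [← hT, hti T S t (hT.ge (Subgroup.mem_centralizer_singleton_iff.2 rfl)) ht
    (Involutions.Basic.ne_one hto)]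

omit [Fact (Nat.Prime 2)] in
theorem TI.mem_normalizer (hti : TI G) (S : Sylow 2 G) {g x : G} (hx : x ∈ (S : Subgroup G)) (hx1 : x ≠ 1)
    (hg : g * x * g⁻¹ ∈ (S : Subgroup G)) : g ∈ Subgroup.normalizer ((S : Subgroup G) : Set G) := by
  refine Sylow.smul_eq_iff_mem_normalizer.1 (hti (g • S) S (g * x * g⁻¹) ?_ hg (fun e => hx1 (conj_eq_one_iff.1 e)))
  rw [Sylow.coe_subgroup_smul, Subgroup.mem_pointwise_smul_iff_inv_smul_mem, ← map_inv, MulAut.smul_def,
    MulAut.conj_apply, inv_inv]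
  simpa [mul_assoc] using hx

variable [IsSimpleGroup G]

/-- In a simple group all involutions of `S` are conjugate. -/
theorem TI.exists_conj (hti : TI G) (h : Orders G q r 4) (S : Sylow 2 G) {t u : G} (ht : t ∈ (S : Subgroup G))
    (hto : orderOf t = 2) (huo : orderOf u = 2) : ∃ g : G, g * t * g⁻¹ = u := by
  obtain ⟨a, hau⟩ : ∃ a : G, a * u * a⁻¹ ∉ (S : Subgroup G) := by
    by_contra hall
    push Not at hall
    set N := Subgroup.closure (Set.range fun a : G => a * u * a⁻¹)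
    haveI : N.Normal := ⟨fun n hn b => by
      have hle : N ≤ N.comap (MulAut.conj b).toMonoidHom := (Subgroup.closure_le _).2 (by
        rintro _ ⟨a, rfl⟩
        exact Subgroup.subset_closure ⟨b * a, by
          show b * a * u * (b * a)⁻¹ = b * (a * u * a⁻¹) * b⁻¹
          group⟩)
      exact hle hn⟩
    have hNS : N ≤ S := (Subgroup.closure_le _).2 (by rintro _ ⟨a, rfl⟩; exact hall a)
    rcases IsSimpleGroup.eq_bot_or_eq_top_of_normal N inferInstance with e | e
    · exact Involutions.Basic.ne_one huo ((Subgroup.eq_bot_iff_forall N).1 e u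
        (Subgroup.subset_closure ⟨1, by simp⟩))
    · refine not_isPGroup_two h fun x => ?_
      obtain ⟨k, hk⟩ := S.2 ⟨x, hNS (e ▸ Subgroup.mem_top x)⟩
      exact ⟨k, congrArg Subtype.val hk⟩
  set u' := a * u * a⁻¹ with hu'
  have hu'o : orderOf u' = 2 := by rw [hu', Involutions.Basic.orderOf_conj, huo]
  by_cases hc : IsConj t u'
  · obtain ⟨g, hg⟩ := isConj_iff.1 hc
    exact ⟨a⁻¹ * g, by
      rw [show a⁻¹ * g * t * (a⁻¹ * g)⁻¹ = a⁻¹ * (g * t * g⁻¹) * a by group, hg, hu']; group⟩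
  · exfalso
    obtain ⟨hv, hvt, hvu⟩ := Involutions.Basic.middle_involution hto hu'o
      (Involutions.Basic.even_orderOf_mul_of_not_isConj hto hu'o hc)
    obtain ⟨T, hT⟩ := cent_sylow h hv
    have h1 : t ∈ (T : Subgroup G) := hT.ge (Subgroup.mem_centralizer_singleton_iff.2 hvt.eq.symm)
    have h2 : u' ∈ (T : Subgroup G) := hT.ge (Subgroup.mem_centralizer_singleton_iff.2 hvu.eq.symm)
    rw [hti T S t h1 ht (Involutions.Basic.ne_one hto)] at h2
    exact hau h2

/-- The normalizer of `S`. -/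
theorem TI.normalizer_card (hti : TI G) (h : Orders G q r 4) (hG : ¬ IsMulCommutative G) (S : Sylow 2 G) :
    ∃ c e : ℕ, 2 ≤ c ∧ e + 1 = 2 ^ c ∧ (e = q ∨ e = r) ∧ 2 ^ (c + 1) ≤ Nat.card S ∧
      Nat.card ↥(Subgroup.normalizer ((S : Subgroup G) : Set G)) = e * Nat.card S ∧ e ∣ Nat.card S - 1 := by
  classical
  have hcen : ∀ x ∈ (S : Subgroup G), x * x = 1 → ∀ a ∈ (S : Subgroup G), Commute a x := by
    intro x hx hxx a ha
    rcases eq_or_ne x 1 with rfl | hx1
    · exact Commute.one_right a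
    · exact Subgroup.mem_centralizer_singleton_iff.1
        ((hti.centralizer_eq h S hx (orderOf_eq_prime (by rw [pow_two, hxx]) hx1)).ge ha)
  let E : Subgroup G :=
    { carrier := {x | x ∈ (S : Subgroup G) ∧ x * x = 1}
      one_mem' := ⟨one_mem _, one_mul 1⟩
      mul_mem' := fun {a b} ha hb => ⟨mul_mem ha.1 hb.1, by
        rw [(show Commute b a from (hcen a ha.1 ha.2 b hb.1)).mul_mul_mul_comm, ha.2, hb.2, one_mul]⟩
      inv_mem' := fun {a} ha => ⟨inv_mem ha.1, by rw [← mul_inv_rev, ha.2, inv_one]⟩ }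
  have hES : E ≤ S := fun x hx => hx.1
  obtain ⟨c, hc⟩ := (S.2.to_le hES).exists_card_eq
  obtain ⟨F, hF⟩ := S0204.result (G := G) (fun hc => hG inferInstance)
  have h4 : 4 ≤ Nat.card E := by
    obtain ⟨g, hg⟩ := FiveOrders.exists_conj_le S.2 (fun Y hY hle => (S.3 hY hle).le)
      (IsPGroup.of_card (n := 2) hF.card_four : IsPGroup 2 F)
    have hle : conjS g⁻¹ F ≤ E := fun x hx => by
      refine ⟨(FiveOrders.le_conjS_iff.1 hg) hx, ?_⟩
      exact FiveOrders.conjS_sq (fun a ha => by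
        haveI := hF
        exact congrArg Subtype.val (IsKleinFour.mul_self (⟨a, ha⟩ : F))) hx
    calc 4 = Nat.card (conjS g⁻¹ F) := by rw [card_conjS, hF.card_four]
      _ ≤ _ := Subgroup.card_le_of_le hle
  have hc2 : 2 ≤ c := by
    by_contra hlt
    have h1 : 2 ^ c ≤ 2 ^ 1 := Nat.pow_le_pow_right two_pos (by omega)
    omega
  have hE1 : E ≠ ⊥ := fun e => by rw [e, Subgroup.card_bot] at h4; omega
  obtain ⟨t, ht, ht1⟩ := (Subgroup.bot_or_exists_ne_one E).resolve_left hE1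
  have hto : orderOf t = 2 := orderOf_eq_prime (by rw [pow_two, ht.2]) ht1
  set N := Subgroup.normalizer ((S : Subgroup G) : Set G) with hN
  have hNE : N ≤ Subgroup.normalizer (E : Set G) := fun n hn => FiveOrders.mem_normalizer_of_conj fun x hx =>
    ⟨(Subgroup.mem_normalizer_iff.1 hn x).1 hx.1, FiveOrders.conj_sq hx.2⟩
  let E1 := {x : G // x ∈ E ∧ x ≠ 1}
  have hex : ∀ x : E1, ∃ n : N, (n : G) * t * (n : G)⁻¹ = x.1 := fun x => by
    obtain ⟨g, hg⟩ := hti.exists_conj h S ht.1 hto (orderOf_eq_prime (by rw [pow_two, x.2.1.2]) x.2.2)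
    exact ⟨⟨g, hti.mem_normalizer S ht.1 ht1 (by rw [hg]; exact x.2.1.1)⟩, hg⟩
  choose γ hγ using hex
  have hmem : ∀ n : N, (n : G) * t * (n : G)⁻¹ ∈ E ∧ (n : G) * t * (n : G)⁻¹ ≠ 1 := fun n =>
    ⟨(Subgroup.mem_normalizer_iff.1 (hNE n.2) t).1 ht, fun e => ht1 (conj_eq_one_iff.1 e)⟩
  have hrest : ∀ n : N, (γ ⟨_, hmem n⟩ : G)⁻¹ * n ∈ (S : Subgroup G) := fun n => by
    refine (hti.centralizer_eq h S ht.1 hto).le (Subgroup.mem_centralizer_singleton_iff.2 ?_)
    have e : (γ ⟨_, hmem n⟩ : G) * t * (γ ⟨_, hmem n⟩ : G)⁻¹ = (n : G) * t * (n : G)⁻¹ := hγ _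
    revert e
    generalize (γ ⟨_, hmem n⟩ : G) = g
    intro e
    calc g⁻¹ * n * t = g⁻¹ * ((n : G) * t * (n : G)⁻¹) * n := by group
      _ = _ := by rw [← e]; group
  let ψ : N → E1 × (S : Subgroup G) := fun n => (⟨_, hmem n⟩, ⟨_, hrest n⟩)
  have hψ : Function.Bijective ψ := by
    constructor
    · intro m n e
      obtain ⟨e1, e2⟩ := Prod.ext_iff.1 e
      have e1' : (⟨_, hmem m⟩ : E1) = ⟨_, hmem n⟩ := e1
      have e2' : (γ ⟨_, hmem m⟩ : G)⁻¹ * m = (γ ⟨_, hmem n⟩ : G)⁻¹ * n :=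
        congrArg (fun y : (S : Subgroup G) => (y : G)) e2
      rw [e1'] at e2'
      exact Subtype.ext (mul_left_cancel e2')
    · rintro ⟨x, s, hs⟩
      have e1 : (γ x : G) * s * t * ((γ x : G) * s)⁻¹ = x.1 := by
        rw [show (γ x : G) * s * t * ((γ x : G) * s)⁻¹ = (γ x : G) * (s * t * s⁻¹) * (γ x : G)⁻¹ by group,
          (hcen t ht.1 ht.2 s hs).eq, mul_inv_cancel_right, hγ]
      refine ⟨⟨(γ x : G) * s, mul_mem (γ x).2 (Subgroup.le_normalizer hs)⟩, Prod.ext (Subtype.ext e1) (Subtype.ext ?_)⟩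
      show (γ _ : G)⁻¹ * ((γ x : G) * s) = s
      have e5 : ∀ x' : E1, x' = x → (γ x' : G)⁻¹ * ((γ x : G) * s) = s := fun x' e => by
        subst e; exact inv_mul_cancel_left _ _
      exact e5 _ (Subtype.ext e1)
  have hNc : Nat.card N = (2 ^ c - 1) * Nat.card S := by
    rw [Nat.card_congr (Equiv.ofBijective ψ hψ), Nat.card_prod]
    congr 1
    have h1 := Set.ncard_sdiff_singleton_add_one (show (1 : G) ∈ (E : Set G) from one_mem E) (Set.toFinite _)
    rw [show (E : Set G).ncard = 2 ^ c from (Nat.card_coe_set_eq _).symm.trans hc] at h1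
    have h2 : Nat.card E1 = ((E : Set G) \ {1}).ncard := Nat.card_coe_set_eq _
    omega
  obtain ⟨w, hw⟩ : ∃ w, 2 ^ c = 2 * w := ⟨2 ^ (c - 1), by rw [← pow_succ']; congr 1; omega⟩
  have hrel : (S : Subgroup G).relIndex N = 2 ^ c - 1 := by
    have h1 := ((S : Subgroup G).subgroupOf N).card_mul_index
    rw [Nat.card_congr (Subgroup.subgroupOfEquivOfLe (Subgroup.le_normalizer : (S : Subgroup G) ≤ N)).toEquiv,
      hNc, mul_comm (2 ^ c - 1)] at h1
    exact Nat.eq_of_mul_eq_mul_left Nat.card_pos h1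
  obtain ⟨n, hn⟩ := S.2.exists_card_eq
  obtain ⟨H, hHN, hH⟩ := exists_complement_of_coprime (S : Subgroup G) Subgroup.le_normalizer (le_refl N)
    (by rw [hrel, hn]; exact Nat.Coprime.pow_left n ((Nat.prime_two.coprime_iff_not_dvd).2 (by omega)))
  rw [hrel] at hH
  have hHodd : ¬ 2 ∣ Nat.card H := by rw [hH]; omega
  have hdvd : 2 ^ c - 1 ∣ q * r := hH ▸ odd_part_dvd h hE1 (S.2.to_le hES) (hHN.trans hNE) hHodd
  have he : 2 ^ c - 1 = q ∨ 2 ^ c - 1 = r := by
    rcases Nat.dvd_mul.1 hdvd with ⟨a, b, ha, hb, hab⟩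
    rcases (Nat.dvd_prime h.hq).1 ha with rfl | rfl <;> rcases (Nat.dvd_prime h.hr).1 hb with rfl | rfl
    · omega
    · exact Or.inr (by rw [← hab, one_mul])
    · exact Or.inl (by rw [← hab, mul_one])
    · exfalso
      letI : CommGroup E := { (inferInstance : Group E) with
        mul_comm := fun x y => Subtype.ext (hcen y y.2.1 y.2.2 x x.2.1).eq }
      haveI : Nontrivial E := E.nontrivial_iff_ne_bot.2 hE1
      refine no_qr (M := H) (W := E) (fun x => Subtype.ext x.2.2)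
        ((Subgroup.normalizerMonoidHom E).comp (Subgroup.inclusion (hHN.trans hNE))) h.hq h.hr h.qr
        (by rw [hH, ← hab]) (fun m e => ?_) fun m hm1 x hx => ?_
      · rw [← Subgroup.orderOf_coe] at e
        exact mul_notMem h h.hq h.hr (fun x => h.q2 x.1) (e ▸ mem_spec (m : G))
      · have e : (m : G) * x * (m : G)⁻¹ = x := congrArg Subtype.val hx
        obtain ⟨p, hp, hpd⟩ := Nat.exists_prime_and_dvd (n := orderOf m) (by rwa [ne_eq, orderOf_eq_one_iff])
        have hp2 : p ≠ 2 := by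
          rintro rfl
          exact hHodd (hpd.trans (orderOf_dvd_natCard m))
        have hpo : orderOf ((m : G) ^ (orderOf m / p)) = p := by
          rw [← Subgroup.coe_pow, Subgroup.orderOf_coe, orderOf_pow_orderOf_div (orderOf_pos m).ne' hpd]
        exact Subtype.ext (no_comm_two h (two_pow_four h S.2 (hES x.2)) hp hp2 hpo
          ((show Commute (m : G) x from mul_inv_eq_iff_eq_mul.1 e).symm.pow_right _))
  refine ⟨c, 2 ^ c - 1, hc2, by omega, he, ?_, hNc, ?_⟩
  · have hEne : E ≠ (S : Subgroup G) := by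
      intro e
      obtain ⟨g, hg⟩ : 4 ∈ spec G := by rw [h.spec_eq]; simp
      obtain ⟨a, ha⟩ := exists_conj_mem_sylow S (x := g) (k := 2) (by rw [hg]; norm_num)
      rw [← e] at ha
      have h2 : orderOf (a⁻¹ * g * a) ≤ 2 := Nat.le_of_dvd two_pos
        (orderOf_dvd_of_pow_eq_one (by rw [pow_two]; exact ha.2))
      rw [show a⁻¹ * g * a = a⁻¹ * g * a⁻¹⁻¹ by rw [inv_inv], Involutions.Basic.orderOf_conj, hg] at h2
      omega
    obtain ⟨j, hj⟩ := Subgroup.card_dvd_of_le hES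
    rw [hc] at hj
    rw [show Nat.card ↥(S : Subgroup G) = Nat.card S from rfl] at hj
    rcases j with _ | _ | j
    · rw [mul_zero] at hj; exact absurd hj Nat.card_pos.ne'
    · exact absurd (Subgroup.eq_of_le_of_card_ge hES (by rw [hc]; exact (hj.trans (mul_one _)).le)) hEne
    · rw [hj, pow_succ]; exact Nat.mul_le_mul_left _ (by omega)
  · rw [← hH]
    refine FiveOrders.dvd_card_sub_one hHN fun m hm hm1 x hx hx1 hcm => ?_
    obtain ⟨p, hp, hpd⟩ := Nat.exists_prime_and_dvd (n := orderOf m) (by rwa [ne_eq, orderOf_eq_one_iff])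
    have hp2 : p ≠ 2 := by
      rintro rfl
      exact hHodd (hpd.trans (Subgroup.orderOf_dvd_natCard H hm))
    exact hx1 (no_comm_two h (two_pow_four h S.2 hx) hp hp2 (orderOf_pow_orderOf_div (orderOf_pos m).ne' hpd)
      (hcm.symm.pow_right _))

omit [IsSimpleGroup G] in
/-- The number of non-trivial 2-elements. -/
theorem TI.count (hti : TI G) (h : Orders G q r 4) (S : Sylow 2 G) :
    Nat.card {g : G | g ≠ 1 ∧ g ^ 4 = 1} * Nat.card ↥(Subgroup.normalizer ((S : Subgroup G) : Set G)) =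
      Nat.card G * (Nat.card S - 1) := by
  classical
  have hex : ∀ a : G, a ≠ 1 → a ^ 4 = 1 → ∃ P : Sylow 2 G, a ∈ (P : Subgroup G) := by
    intro a _ ha
    obtain ⟨j, -, hj⟩ := (Nat.dvd_prime_pow Nat.prime_two).1 (orderOf_dvd_of_pow_eq_one (show a ^ 2 ^ 2 = 1 from ha))
    obtain ⟨P, hP⟩ := (IsPGroup.of_card (n := j) (by rw [Nat.card_zpowers, hj]) :
      IsPGroup 2 (Subgroup.zpowers a)).exists_le_sylow
    exact ⟨P, hP (Subgroup.mem_zpowers a)⟩
  let φ : G → Subgroup G := fun a => if ha : a ≠ 1 ∧ a ^ 4 = 1 then ((hex a ha.1 ha.2).choose : Subgroup G) else ⊥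
  have hφ : ∀ (a : G) (P : Sylow 2 G), a ≠ 1 → a ^ 4 = 1 → a ∈ (P : Subgroup G) → φ a = P := by
    intro a P h1 h2 h3
    simp only [φ, dif_pos (show a ≠ 1 ∧ a ^ 4 = 1 from ⟨h1, h2⟩)]
    exact congrArg Sylow.toSubgroup (hti _ P a (hex a h1 h2).choose_spec h3 h1)
  have key := fibre_count (A := {g : G | g ≠ 1 ∧ g ^ 4 = 1}) φ (S : Subgroup G)
    (fun g a ha => ⟨fun e => ha.1 (conj_eq_one_iff.1 e), by rw [conj_pow, ha.2, mul_one, mul_inv_cancel]⟩)
    (fun g a ha => by
      obtain ⟨P, hP⟩ := hex a ha.1 ha.2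
      rw [hφ a P ha.1 ha.2 hP, hφ (g * a * g⁻¹) (g • P) (fun e => ha.1 (conj_eq_one_iff.1 e))
        (by rw [conj_pow, ha.2, mul_one, mul_inv_cancel]) ?_, Sylow.coe_subgroup_smul]
      · rfl
      · rw [Sylow.coe_subgroup_smul, Subgroup.mem_pointwise_smul_iff_inv_smul_mem, ← map_inv, MulAut.smul_def,
          MulAut.conj_apply, inv_inv]
        simpa [mul_assoc] using hP)
    (fun a ha => by
      obtain ⟨P, hP⟩ := hex a ha.1 ha.2
      obtain ⟨g, rfl⟩ := MulAction.exists_smul_eq G S P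
      exact ⟨g, by rw [hφ a _ ha.1 ha.2 hP, Sylow.coe_subgroup_smul]; rfl⟩)
  rw [key]
  congr 1
  have h1 := Set.ncard_sdiff_singleton_add_one (show (1 : G) ∈ ((S : Subgroup G) : Set G) from one_mem _)
    (Set.toFinite _)
  rw [show ((S : Subgroup G) : Set G).ncard = Nat.card S from (Nat.card_coe_set_eq _).symm] at h1
  have h2 : {a : G | a ∈ {g : G | g ≠ 1 ∧ g ^ 4 = 1} ∧ φ a = S} = ((S : Subgroup G) : Set G) \ {1} := by
    ext a
    simp only [Set.mem_setOf_eq, Set.mem_sdiff, Set.mem_singleton_iff, SetLike.mem_coe]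
    constructor
    · rintro ⟨⟨a1, a4⟩, e⟩
      obtain ⟨P, hP⟩ := hex a a1 a4
      rw [hφ a P a1 a4 hP] at e
      exact ⟨e ▸ hP, a1⟩
    · rintro ⟨ha, a1⟩
      exact ⟨⟨a1, two_pow_four h S.2 ha⟩, hφ a S a1 (two_pow_four h S.2 ha) ha⟩
  rw [Nat.card_coe_set_eq, h2]
  omega

end

end Cfsg.Agent.GroupStructure3.FiveOrbits.Four
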