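import Cfsg.Agent.GroupStructure3.FiveOrbits.Four.TI
import Cfsg.Agent.GroupStructure3.FiveOrbits.Four.OddSylow
import Cfsg.Agent.GroupStructure3.FiveOrbits.Four.Arith

/-!
# No simple group with spectrum `{1, 2, q, r, 4}` and trivially intersecting Sylow 2-subgroups
-/

set_option autoImplicit false

namespace Cfsg.Agent.GroupStructure3.FiveOrbits.Four

universe u

variable {G : Type u} [Group G] [Finite G] {q r : ℕ}

theorem partition (h : Orders G q r 4) :
    Nat.card G = 1 + Nat.card {g : G | g ≠ 1 ∧ g ^ 4 = 1} + numOrd G q + numOrd G r := by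
  classical
  haveI := Fintype.ofFinite G
  have hnum : ∀ n, numOrd G n = (Finset.univ.filter fun g : G => orderOf g = n).card := fun n => by
    rw [numOrd, Nat.card_eq_fintype_card, Fintype.card_subtype]
  have h2 : Nat.card {g : G | g ≠ 1 ∧ g ^ 4 = 1} =
      (Finset.univ.filter fun g : G => g ≠ 1 ∧ g ^ 4 = 1).card := by
    rw [Nat.card_eq_fintype_card]
    exact Fintype.card_subtype _
  have hq4 : ¬ q ∣ 4 := fun hd => h.q2
    ((Nat.prime_dvd_prime_iff_eq h.hq Nat.prime_two).1 (h.hq.dvd_of_dvd_pow (show q ∣ 2 ^ 2 from hd)))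
  have hr4 : ¬ r ∣ 4 := fun hd => h.r2
    ((Nat.prime_dvd_prime_iff_eq h.hr Nat.prime_two).1 (h.hr.dvd_of_dvd_pow (show r ∣ 2 ^ 2 from hd)))
  let f : G → ℕ := fun g => if g = 1 then 0 else if g ^ 4 = 1 then 1 else if orderOf g = q then 2 else 3
  have hsum := Finset.card_eq_sum_card_fiberwise (f := f) (s := Finset.univ) (t := ({0, 1, 2, 3} : Finset ℕ))
    (fun g _ => by simp only [f]; split_ifs <;> simp)
  rw [Finset.sum_insert (by simp), Finset.sum_insert (by simp), Finset.sum_insert (by simp), Finset.sum_singleton]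
    at hsum
  have e0 : (Finset.univ.filter fun g : G => f g = 0) = {1} := by
    ext g; simp only [f, Finset.mem_filter, Finset.mem_univ, true_and, Finset.mem_singleton]
    split_ifs with a b c <;> simp [a]
  have e1 : (Finset.univ.filter fun g : G => f g = 1) = Finset.univ.filter fun g : G => g ≠ 1 ∧ g ^ 4 = 1 := by
    ext g; simp only [f, Finset.mem_filter, Finset.mem_univ, true_and]
    split_ifs with a b c <;> simp_all
  have e2 : (Finset.univ.filter fun g : G => f g = 2) = Finset.univ.filter fun g : G => orderOf g = q := by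
    ext g; simp only [f, Finset.mem_filter, Finset.mem_univ, true_and]
    split_ifs with a b c
    · subst a; simp [h.hq.ne_one.symm]
    · exact iff_of_false (by norm_num) fun e => hq4 (e ▸ orderOf_dvd_of_pow_eq_one b)
    · simp [c]
    · exact iff_of_false (by norm_num) c
  have e3 : (Finset.univ.filter fun g : G => f g = 3) = Finset.univ.filter fun g : G => orderOf g = r := by
    ext g; simp only [f, Finset.mem_filter, Finset.mem_univ, true_and]
    split_ifs with a b c
    · subst a; simp [h.hr.ne_one.symm]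
    · exact iff_of_false (by norm_num) fun e => hr4 (e ▸ orderOf_dvd_of_pow_eq_one b)
    · exact iff_of_false (by norm_num) fun e => h.qr (c.symm.trans e)
    · refine iff_of_true rfl ?_
      rcases h.cases g with e | e | e | e | e
      · exact absurd (orderOf_eq_one_iff.1 e) a
      · exact absurd (orderOf_dvd_iff_pow_eq_one.1 (by rw [e]; norm_num)) b
      · exact absurd e c
      · exact e
      · exact absurd (orderOf_dvd_iff_pow_eq_one.1 (by rw [e])) b
  rw [e0, e1, e2, e3, Finset.card_singleton, Finset.card_univ, ← Nat.card_eq_fintype_card, ← h2, ← hnum,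
    ← hnum] at hsum
  omega

theorem card_eq_prod (h : Orders G q r 4) (S : Sylow 2 G) (Q : Sylow q G) (R : Sylow r G) :
    Nat.card G = Nat.card S * Nat.card Q * Nat.card R := by
  haveI : Fact (Nat.Prime 2) := ⟨Nat.prime_two⟩
  haveI := Fact.mk h.hq
  haveI := Fact.mk h.hr
  rw [S.card_eq_multiplicity, Q.card_eq_multiplicity, R.card_eq_multiplicity]
  set n := Nat.card G with hn
  have hn0 : n ≠ 0 := Nat.card_pos.ne'
  conv_lhs => rw [← Nat.prod_factorization_pow_eq_self hn0]
  rw [Nat.prod_factorization_eq_prod_primeFactors]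
  rw [Finset.prod_subset (s₂ := {2, q, r}) ?_ ?_]
  · rw [Finset.prod_insert (by simp [h.q2.symm, h.r2.symm]), Finset.prod_pair h.qr, mul_assoc]
  · intro p hp
    rw [Nat.mem_primeFactors] at hp
    rcases h.prime_cases (by norm_num) hp.1 hp.2.1 with rfl | rfl | rfl <;> simp
  · intro p hp hnp
    have : n.factorization p = 0 := Finsupp.notMem_support_iff.1 (by rwa [Nat.support_factorization])
    rw [this, pow_zero]

/-- The class equation cannot hold. -/
theorem count_false (h : Orders G q r 4) {A c n a b eQ eR : ℕ}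
    (hc : q + 1 = 2 ^ c) (hn : c + 1 ≤ n) (hqM : q ∣ 2 ^ n - 1)
    (hA : A * (q * 2 ^ n) = Nat.card G * (2 ^ n - 1))
    (hG : Nat.card G = 2 ^ n * q ^ a * r ^ b) (ha : 1 ≤ a) (hb : 1 ≤ b)
    (hQe : (∃ k, 1 ≤ k ∧ eQ = 2 ^ k) ∨ eQ = r) (hQd : eQ ∣ q ^ a - 1)
    (hQ : numOrd G q * (eQ * q ^ a) = Nat.card G * (q ^ a - 1))
    (hRe : (∃ k, 1 ≤ k ∧ eR = 2 ^ k) ∨ eR = q) (hRd : eR ∣ r ^ b - 1)
    (hR : numOrd G r * (eR * r ^ b) = Nat.card G * (r ^ b - 1))
    (hsum : Nat.card G = 1 + A + numOrd G q + numOrd G r) : False := by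
  have hq3 : 3 ≤ q := by have := h.hq.two_le; have := h.q2; omega
  have hr3 : 3 ≤ r := by have := h.hr.two_le; have := h.r2; omega
  have hc2 : 2 ≤ c := by
    by_contra hlt
    have := Nat.pow_le_pow_right two_pos (show c ≤ 1 by omega)
    omega
  have hM : 2 * (q + 1) ≤ 2 ^ n := by
    rw [hc, ← pow_succ']; exact Nat.pow_le_pow_right two_pos hn
  have hRodd : (r ^ b) % 2 = 1 := Nat.odd_iff.1 ((h.hr.odd_of_ne_two h.r2).pow)
  have hR3 : 3 ≤ r ^ b := hr3.trans (Nat.le_self_pow (by omega) r)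
  have hRq : r ^ b ≠ q := fun e => h.qr
    ((Nat.prime_dvd_prime_iff_eq h.hr h.hq).1 (e ▸ dvd_pow_self r (by omega))).symm
  have heQ : 2 ≤ eQ := by
    rcases hQe with ⟨k, hk, rfl⟩ | rfl
    exacts [Nat.le_self_pow (by omega) 2, by omega]
  have heR : 2 ≤ eR := by
    rcases hRe with ⟨k, hk, rfl⟩ | rfl
    exacts [Nat.le_self_pow (by omega) 2, by omega]
  set G0 := Nat.card G with hG0
  set Nq := numOrd G q
  set Nr := numOrd G r
  set M := 2 ^ n with hMdef
  set Q := q ^ a with hQdef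
  set R := r ^ b with hRdef
  clear_value G0 Nq Nr M Q R
  obtain ⟨M', hM'⟩ : ∃ M', M = M' + 1 := ⟨M - 1, by omega⟩
  obtain ⟨Q', hQ'⟩ : ∃ Q', Q = Q' + 1 := ⟨Q - 1, by have := Nat.one_le_pow a q h.hq.pos; omega⟩
  obtain ⟨R', hR'⟩ : ∃ R', R = R' + 1 := ⟨R - 1, by omega⟩
  have hA1 : A * q = Q * R * (M - 1) := Nat.eq_of_mul_eq_mul_left (show 0 < M by omega) (by
    calc M * (A * q) = A * (q * M) := by ring
      _ = G0 * (M - 1) := hA
      _ = _ := by rw [hG]; ring)
  have hQ1 : Nq * eQ = M * R * (Q - 1) := Nat.eq_of_mul_eq_mul_left (show 0 < Q by omega) (by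
    calc Q * (Nq * eQ) = Nq * (eQ * Q) := by ring
      _ = G0 * (Q - 1) := hQ
      _ = _ := by rw [hG]; ring)
  have hR1 : Nr * eR = M * Q * (R - 1) := Nat.eq_of_mul_eq_mul_left (show 0 < R by omega) (by
    calc R * (Nr * eR) = Nr * (eR * R) := by ring
      _ = G0 * (R - 1) := hR
      _ = _ := by rw [hG]; ring)
  -- the class equation
  have main : q * eQ * eR * (M * Q * R) = q * eQ * eR + eQ * eR * (Q * R * (M - 1)) +
      q * eR * (M * R * (Q - 1)) + q * eQ * (M * Q * (R - 1)) := by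
    rw [← hA1, ← hQ1, ← hR1, ← hG, hsum]; ring
  rw [hM', hQ', hR'] at main
  simp only [Nat.add_sub_cancel] at main
  -- the bound
  have hqQ : q ≤ Q := by rw [hQdef]; exact Nat.le_self_pow (by omega) q
  have hbound : q * eQ * eR < eQ * eR + q * eR + q * eQ := by
    by_contra hge
    push Not at hge
    have h3 : q * 1 ≤ (Q' + 1) * (R' + 1) := Nat.mul_le_mul (by omega) (by omega)
    have h4 := Nat.mul_le_mul_right ((M' + 1) * (Q' + 1) * (R' + 1)) hge
    have h5 := Nat.mul_le_mul_left (eQ * eR) h3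
    have h6 := Nat.mul_pos (Nat.mul_pos h.hq.pos (show 0 < eR by omega))
      (Nat.mul_pos (show 0 < M' + 1 by omega) (show 0 < R' + 1 by omega))
    have h7 := Nat.zero_le (q * eQ * ((M' + 1) * (Q' + 1)))
    zify at main h4 h5 h6 h7
    linarith
  -- both automizers of order two
  by_cases h22 : eQ = 2 ∧ eR = 2
  · obtain ⟨rfl, rfl⟩ := h22
    obtain ⟨a', ha'⟩ : ∃ a', a = a' + 1 := ⟨a - 1, by omega⟩
    have hQq : Q = q * q ^ a' := by rw [hQdef, ha', pow_succ']
    refine arith_two_two (M := M) (Q' := q ^ a') (R := R) hq3 hc hM ?_ hR3 hRodd hRq ?_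
    · rcases a' with _ | a'
      exacts [Or.inl (pow_zero q), Or.inr (Nat.le_self_pow a'.succ_ne_zero q)]
    · rw [hM', hR']
      refine Nat.eq_of_mul_eq_mul_left (show 0 < 2 * q by omega) ?_
      have hQ'' : Q' + 1 = q * q ^ a' := by rw [← hQ', hQq]
      zify at hQ'' main ⊢
      rw [show (Q' : ℤ) = (q : ℤ) * (q : ℤ) ^ a' - 1 by linarith] at main
      linear_combination (-1 : ℤ) * main
  -- `q = 3`
  have hq : q = 3 ∧ ((eQ = 2 ∧ eR = 3) ∨ (eQ = 2 ∧ eR = 4) ∨ (eQ = 4 ∧ eR = 2) ∨ (eQ = 5 ∧ r = 5 ∧ eR = 2)) := by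
    rcases two_of_sum hq3 heQ heR hbound with e | e
    · subst e
      rcases sum_two hq3 heR hbound with e' | ⟨e1, e2⟩ | ⟨e1, e2⟩
      · exact absurd ⟨rfl, e'⟩ h22
      · refine ⟨e1, ?_⟩
        rcases hRe with ⟨k, hk, rfl⟩ | rfl
        · have hk2 : k ≤ 2 := by
            by_contra hlt
            have := Nat.pow_le_pow_right two_pos (show 3 ≤ k by omega)
            omega
          rcases (show k = 1 ∨ k = 2 by omega) with rfl | rfl
          · exact absurd ⟨rfl, rfl⟩ h22
          · exact Or.inr (Or.inl ⟨rfl, rfl⟩)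
        · exact Or.inl ⟨rfl, e1⟩
      · rcases hRe with ⟨k, hk, rfl⟩ | rfl
        · exfalso
          have : 2 ∣ 2 ^ k := dvd_pow_self 2 (by omega)
          omega
        · exact ⟨e1, Or.inl ⟨rfl, e1⟩⟩
    · subst e
      rcases sum_two hq3 heQ (by linarith) with e' | ⟨e1, e2⟩ | ⟨e1, e2⟩
      · exact absurd ⟨e', rfl⟩ h22
      · refine ⟨e1, ?_⟩
        rcases hQe with ⟨k, hk, rfl⟩ | rfl
        · have hk2 : k ≤ 2 := by
            by_contra hlt
            have := Nat.pow_le_pow_right two_pos (show 3 ≤ k by omega)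
            omega
          rcases (show k = 1 ∨ k = 2 by omega) with rfl | rfl
          · exact absurd ⟨rfl, rfl⟩ h22
          · exact Or.inr (Or.inr (Or.inl ⟨rfl, rfl⟩))
        · have h5 : eQ = 5 := by
            have := h.qr
            rcases (show eQ = 3 ∨ eQ = 4 ∨ eQ = 5 by omega) with e | e | e
            · omega
            · rw [e] at h
              exact absurd h.hr (by norm_num)
            · exact e
          exact Or.inr (Or.inr (Or.inr ⟨h5, h5, rfl⟩))
      · exfalso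
        rcases hQe with ⟨k, hk, rfl⟩ | rfl
        · have : 2 ∣ 2 ^ k := dvd_pow_self 2 (by omega)
          omega
        · have hq5 : q = 5 := by
            have := h.qr
            rcases (show q = 3 ∨ q = 4 ∨ q = 5 by omega) with e | e | e
            · omega
            · rw [e] at h
              exact absurd h.hq (by norm_num)
            · exact e
          rw [hq5] at hc
          rcases c with _ | _ | _ | c
          all_goals first | omega | (simp [pow_succ] at hc) | (have := Nat.pow_le_pow_right two_pos (show 3 ≤ c + 1 + 1 + 1 by omega); omega)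
  obtain ⟨rfl, hcases⟩ := hq
  have hMcases := pow_cases_two hMdef hqM (by omega)
  have hr5 : 5 ≤ r := by
    have := h.qr
    by_contra hlt
    obtain rfl : r = 4 := by omega
    exact absurd h.hr (by norm_num)
  have hR5 : 5 ≤ R := by rw [hRdef]; exact hr5.trans (Nat.le_self_pow (by omega) r)
  have hRmod : R % 3 ≠ 0 := fun e => by
    rw [hRdef] at e
    exact h.qr ((Nat.prime_dvd_prime_iff_eq Nat.prime_three h.hr).1
      (Nat.prime_three.dvd_of_dvd_pow (Nat.dvd_of_mod_eq_zero e)))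
  have hQcases := pow_cases_three hQdef ha
  have hMQR : M * Q * R = (M' + 1) * (Q' + 1) * (R' + 1) := by rw [hM', hQ', hR']
  rcases hcases with ⟨rfl, rfl⟩ | ⟨rfl, rfl⟩ | ⟨rfl, rfl⟩ | ⟨rfl, rfl, rfl⟩
  · refine arith_two_three (M := M) (Q := Q) (R := R) (by clear main hA1 hQ1 hR1 hA hQ hR hsum hMQR hbound hG hQe hRe; omega) (by clear main hA1 hQ1 hR1 hA hQ hR hsum hMQR hbound hG hQe hRe; omega) ?_ ?_
    · clear main hA1 hQ1 hR1 hA hQ hR hsum hMQR hbound hG hQe hRe; omega
    · rw [hM', hQ', hR']; linarith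
  · refine arith_two_four (M := M) (Q := Q) (R := R) hMcases ?_ hR5 hRmod (by clear main hA1 hQ1 hR1 hA hQ hR hsum hMQR hbound hG hQe hRe; omega) ?_
    · rcases hQcases with e | e | e | ⟨e, hd⟩
      exacts [Or.inl e, Or.inr (Or.inl e), Or.inr (Or.inr ⟨by omega, by rw [e]⟩),
        Or.inr (Or.inr ⟨by omega, dvd_trans (by norm_num) hd⟩)]
    · rw [hM', hQ', hR']; linarith
  · refine arith_four_two (M := M) (Q := Q) (R := R) hMcases ?_ hR5 hRmod hRodd ?_
    · rcases hQcases with e | e | e | ⟨e, hd⟩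
      · clear main hA1 hQ1 hR1 hA hQ hR hsum hMQR hbound hG hQe hRe; omega
      · exact Or.inl e
      · clear main hA1 hQ1 hR1 hA hQ hR hsum hMQR hbound hG hQe hRe; omega
      · exact Or.inr e
    · rw [hM', hQ', hR']; linarith
  · refine arith_five_two (M := M) (Q := Q) (R := R) (by clear main hA1 hQ1 hR1 hA hQ hR hsum hMQR hbound hG hQe hRe; omega) ?_ ?_ ?_
    · rcases hQcases with e | e | e | ⟨e, hd⟩
      · clear main hA1 hQ1 hR1 hA hQ hR hsum hMQR hbound hG hQe hRe; omega
      · clear main hA1 hQ1 hR1 hA hQ hR hsum hMQR hbound hG hQe hRe; omega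
      · clear main hA1 hQ1 hR1 hA hQ hR hsum hMQR hbound hG hQe hRe; omega
      · exact e
    · rcases (show b = 1 ∨ b = 2 ∨ 3 ≤ b by clear main hA1 hQ1 hR1 hA hQ hR hsum hMQR hbound hG hQe hRe; omega) with rfl | rfl | hb'
      · exact Or.inl (by rw [hRdef]; norm_num)
      · exact Or.inr (Or.inl (by rw [hRdef]; norm_num))
      · exact Or.inr (Or.inr (by
          rw [hRdef]; exact le_trans (by norm_num) (Nat.pow_le_pow_right (by norm_num) hb' : 5 ^ 3 ≤ 5 ^ b)))
    · rw [hM', hQ', hR']; linarith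

/-- No such group has trivially intersecting Sylow 2-subgroups. -/
theorem ti_false [IsSimpleGroup G] [Fact (Nat.Prime 2)] (hG : ¬ IsMulCommutative G) (h : Orders G q r 4)
    (hti : TI G) : False := by
  obtain ⟨S⟩ : Nonempty (Sylow 2 G) := inferInstance
  obtain ⟨c, e, hc, hec, he, hS, hN, hd⟩ := hti.normalizer_card h hG S
  wlog hq : e = q generalizing q r
  · exact this h.symm he.symm (he.resolve_left hq)
  subst hq
  haveI := Fact.mk h.hq
  haveI := Fact.mk h.hr
  have hns : ¬ Group.IsSolvable G := fun hs => hG ⟨⟨IsSimpleGroup.comm_iff_isSolvable.2 hs⟩⟩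
  obtain ⟨n, hn⟩ := S.2.exists_card_eq
  obtain ⟨Q⟩ : Nonempty (Sylow e G) := inferInstance
  obtain ⟨R⟩ : Nonempty (Sylow r G) := inferInstance
  have hA := hti.count h S
  rw [hN, show Nat.card S = 2 ^ n from hn] at hA
  rw [show Nat.card S = 2 ^ n from hn] at hS hd
  have hsum := partition h
  have hn' : c + 1 ≤ n := (Nat.pow_le_pow_iff_right (le_refl 2)).1 hS
  have hG0 : 12 ≤ Nat.card G := by
    have hM : 4 ≤ 2 ^ n := le_trans (by norm_num) (Nat.pow_le_pow_right two_pos (show 2 ≤ n by omega) : 2 ^ 2 ≤ 2 ^ n)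
    have he3 : 3 ≤ e := by have := h.hq.two_le; have := h.q2; omega
    have h1 := Nat.le_of_dvd Nat.card_pos (Subgroup.card_subgroup_dvd_card (Subgroup.normalizer ((S : Subgroup G) : Set G)))
    rw [hN, show Nat.card S = 2 ^ n from hn] at h1
    exact le_trans (Nat.mul_le_mul he3 hM) h1
  set A := Nat.card {g : G | g ≠ 1 ∧ g ^ 4 = 1}
  have hA3 : 3 * A < Nat.card G := by
    have he3 : 3 ≤ e := by have := h.hq.two_le; have := h.q2; omega
    refine Nat.lt_of_mul_lt_mul_right (a := 2 ^ n) (lt_of_le_of_lt ?_ (show Nat.card G * (2 ^ n - 1) < Nat.card G * 2 ^ n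
      from Nat.mul_lt_mul_of_pos_left (Nat.sub_lt (Nat.two_pow_pos n) one_pos) Nat.card_pos))
    rw [← hA]
    calc 3 * A * 2 ^ n ≤ e * A * 2 ^ n := Nat.mul_le_mul_right _ (Nat.mul_le_mul_right _ he3)
      _ = A * (e * 2 ^ n) := by ring
  have half : ∀ {s f X : ℕ}, 2 ≤ f → 0 < X → numOrd G s * (f * X) = Nat.card G * (X - 1) →
      2 * numOrd G s < Nat.card G := by
    intro s f X hf hX he'
    refine Nat.lt_of_mul_lt_mul_right (a := X) (lt_of_le_of_lt ?_ (show Nat.card G * (X - 1) < Nat.card G * X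
      from Nat.mul_lt_mul_of_pos_left (Nat.sub_lt hX one_pos) Nat.card_pos))
    rw [← he']
    calc 2 * numOrd G s * X ≤ f * numOrd G s * X := Nat.mul_le_mul_right _ (Nat.mul_le_mul_right _ hf)
      _ = numOrd G s * (f * X) := by ring
  have two_le : ∀ {f s : ℕ}, s.Prime → ((∃ k, 1 ≤ k ∧ f = 2 ^ k) ∨ f = s) → 2 ≤ f := by
    rintro f s hs (⟨k, hk, rfl⟩ | rfl)
    exacts [Nat.le_self_pow (by omega) 2, hs.two_le]
  rcases odd_count h hns R with hR | ⟨eR, b, hb, hRc, hRe, hRd, hR⟩ <;>
    rcases odd_count h.symm hns Q with hQ | ⟨eQ, a, ha, hQc, hQe, hQd, hQ⟩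
  · omega
  · have := half (two_le h.hr hQe) Nat.card_pos hQ
    omega
  · have := half (two_le h.hq hRe) Nat.card_pos hR
    omega
  · rw [hQc] at hQ hQd
    rw [hRc] at hR hRd
    refine count_false h (A := A) hec hn' hd hA ?_ ha hb hQe hQd hQ hRe hRd hR hsum
    rw [card_eq_prod h S Q R, show Nat.card S = 2 ^ n from hn, hQc, hRc]

end Cfsg.Agent.GroupStructure3.FiveOrbits.Four
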